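import Cfsg.Agent.Omega.TC.R.Def
import Cfsg.Agent.Omega.TC.Int

/-!
# CARD #18791, THEOREM R (helper691 #21425): (1a) and (1b) from THEOREM G

`oneA_of`, `oneB_of_thmG` : `ThmG V v` gives `OneA T V v i`, `OneB T V v i` (no (V!), no canonical vectors).
`ThmG V v` is `KL.EndR.thmG` (any frame, THEOREM KL, `hU`).
-/

set_option autoImplicit false
set_option linter.unusedSectionVars false

namespace Cfsg.Agent.Omega.TC.R

open Subgroup Cfsg Cfsg.Agent.ZN
open Cfsg.Agent.Omega.OM.KTwo (CC QQ WU NU EU)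
open Cfsg.Agent.Omega.NO3L.LemP (Comm Near vx)
open Cfsg.Agent.ZN.ChoiceBase (AA cj cj_centralizer)
open Cfsg.Agent.Omega.NO3S.EThree.ExactA (eab_iff eab_mono)
open Cfsg.Agent.Omega.NoFF.Basic (conj_le_iff conj_conj)
open Cfsg.Agent.Omega.OM.PG.Peel (Nob)
open scoped Pointwise

universe u

variable {G : Type u} [Group G] [Finite G]

theorem relIndex_conj (g : G) (A B : Subgroup G) :
    (MulAut.conj g • A).relIndex (MulAut.conj g • B) = A.relIndex B :=
  relIndex_map_map_of_injective A B (MulAut.conj g).injective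

theorem conj_cent (g : G) (A : Subgroup G) :
    MulAut.conj g • centralizer (A : Set G) = centralizer ((MulAut.conj g • A : Subgroup G) : Set G) :=
  cj_centralizer g A

theorem nob_conj {g : G} {X B : Subgroup G} (h : Nob X B) : Nob (MulAut.conj g • X) (MulAut.conj g • B) := by
  unfold Nob at *
  rw [← conj_cent, ← conj_cent, relIndex_conj, relIndex_conj]
  exact h

theorem eab_conj (g : G) {A : Subgroup G} (h : IsElementaryAbelian 2 A) :
    IsElementaryAbelian 2 (MulAut.conj g • A : Subgroup G) := ChoiceBase.isElementaryAbelian_cj g h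

variable {T : Subgroup G} {V P : Fin 2 → Subgroup G} {v : Fin 2 → G} (D : Fr T V P v)

include D

theorem cent_of_thmG (hG : ThmG V v) {i : Fin 2} {A : Subgroup G} (hAC : A ≤ CC v i)
    (h : ∀ x ∈ XX V v i, ∀ a ∈ A, a * x * a⁻¹ * x⁻¹ ∈ NU V v i) : A ≤ centralizer (NU V v i : Set G) := by
  intro a ha
  refine hG i a (hAC ha) fun x hx => ?_
  have h1 := inv_mem (h x hx a ha)
  have e : x * a * x⁻¹ * a⁻¹ = (a * x * a⁻¹ * x⁻¹)⁻¹ := by group
  rw [e]
  exact h1

/-- **(1b)** -/
theorem oneB_of_thmG (hG : ThmG V v) (hML : ML.Final.MLK.{u, u}) (hK : ∀ i, IsKGroup (CC v i)) (i : Fin 2) :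
    OneB T V v i := by
  intro A hA hm hc
  apply hm
  have hX : A ⊓ centralizer (NU V v i : Set G) ≤ centralizer (XX V v i : Set G) := by
    intro a ha
    rw [mem_centralizer_iff]
    intro x hx
    have h1 : NU V v i ≤ normalizer (WU V v i : Set G) := (D.N_le_C i i).trans (D.C_le_N_W i)
    obtain ⟨w, hw, n, hn, rfl⟩ := OM.KTwo.exists_mul_of_mem_sup h1 hx
    have h2 := mem_centralizer_iff.1 (hc ha) w hw
    have h3 := mem_centralizer_iff.1 ha.2 n hn
    calc w * n * a = w * (n * a) := by group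
      _ = (w * a) * n := by rw [h3]; group
      _ = a * (w * n) := by rw [h2]; group
  have hXO : XX V v i ≤ o2 (centralizer (zc T : Set G)) := (D.X_le_Q i).trans (D.Q_le_o2D i)
  have hAC : A ≤ CC v i := hA.2.1.trans ((o2_le _).trans (D.cent_zc_le i))
  have h1 := off (D.X_eab i) hXO hA
  have h2 : (centralizer (XX V v i : Set G)).relIndex A = (centralizer (NU V v i : Set G)).relIndex A := by
    have h3 : A ⊓ centralizer (XX V v i : Set G) = A ⊓ centralizer (NU V v i : Set G) :=
      le_antisymm (inf_le_inf_left _ (centralizer_le (D.N_le_X i))) (le_inf inf_le_left hX)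
    rw [← inf_relIndex_left, h3, inf_relIndex_left]
  rw [h2] at h1
  have h3 := h1.trans (D.no_N hML (hK i) hA.2.1 (eab_iff.1 hA.1).2)
  exact cent_of_thmG D hG hAC (absorb (D.N_le_X i) (D.X_comm i) (hAC.trans (D.C_le_N_N i)) h3)

/-- **(1a)** -/
theorem oneA_of (hG : ThmG V v) (hML : ML.Final.MLK.{u, u}) (hK : ∀ i, IsKGroup (CC v i)) (i : Fin 2) :
    OneA T V v i := by
  intro m k g _ _ _ hAQ hXQ hm hc
  set A : Subgroup G := MulAut.conj g • XX V v k with hA
  have hAO : A ≤ o2 (centralizer (zc T : Set G)) := hAQ.trans (D.Q_le_o2D _)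
  have hAC : A ≤ CC v i := hAQ.trans (D.Q_le_C _ _)
  have hAe : IsElementaryAbelian 2 A := eab_conj g (D.X_eab k)
  -- `|X_i : C(A)| ≤ |A : C_A(X_i)|`
  have h1 : Nob A (XX V v i) := by
    have h2 : MulAut.conj g⁻¹ • XX V v i ≤ QQ v (k + 1) := by
      have h3 := conj_le_iff (g := g⁻¹) |>.2 hXQ
      rwa [conj_conj, inv_mul_cancel, map_one, one_smul] at h3
    have h3 := nob_conj (g := g) (D.nob_X hML (hK k) (eab_conj g⁻¹ (D.X_eab i)) (h2.trans (D.Q_le_o2D _)))
    rwa [conj_conj, mul_inv_cancel, map_one, one_smul] at h3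
  have h2 : (centralizer (XX V v i : Set G)).relIndex A = (centralizer (NU V v i : Set G)).relIndex A := by
    have h3 : A ⊓ centralizer (XX V v i : Set G) = A ⊓ centralizer (NU V v i : Set G) :=
      le_antisymm (inf_le_inf_left _ (centralizer_le (D.N_le_X i))) (le_inf inf_le_left hc)
    rw [← inf_relIndex_left, h3, inf_relIndex_left]
  unfold Nob at h1
  rw [h2] at h1
  have h3 := h1.trans (D.no_N hML (hK i) hAO (eab_iff.1 hAe).2)
  have h4 := cent_of_thmG D hG hAC (absorb (D.N_le_X i) (D.X_comm i) (hAC.trans (D.C_le_N_N i)) h3)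
  exact hm ((le_inf le_rfl h4).trans hc)

end Cfsg.Agent.Omega.TC.R
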