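import Cfsg.Agent.Omega.TC.R.Can
import Cfsg.Agent.Omega.TC.No

/-!
# CARD #18791, THEOREM R (helper691 #21425): the literal interfaces between its parts

`O = o2 (centralizer (zc T))`, `XX V v i = WU V v i ⊔ NU V v i`.

* `Fl V v i g` : `g` is a flag on `v i` (`v i ∈ V i ^ g`); its vertex is `y = v_i ^ g`, its vector is `n ^ g`;
* `Loc T V v i n A` : the common input of (3)-(5) (`two` = (2), `five` = the argument at the beginning of (5));
* `OneA`, `OneB` : (1a), (1b).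
-/

set_option autoImplicit false

namespace Cfsg.Agent.Omega.TC.R

open Subgroup Cfsg Cfsg.Agent.ZN
open Cfsg.Agent.Omega.OM.KTwo (CC QQ WU NU EU)
open Cfsg.Agent.Omega.NO3L.LemP (Comm Near vx)
open Cfsg.Agent.ZN.ChoiceBase (AA)
open scoped Pointwise

universe u

variable {G : Type u} [Group G] [Finite G]

/-- `g` is a flag on `v i`; the vertex is `g * v i * g⁻¹`, the vector `g * n * g⁻¹` -/
def Fl (V : Fin 2 → Subgroup G) (v : Fin 2 → G) (i : Fin 2) (g : G) : Prop := g⁻¹ * v i * g ∈ V i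

/-- **the input of (3)-(5)** -/
structure Loc (T : Subgroup G) (V : Fin 2 → Subgroup G) (v : Fin 2 → G) (i : Fin 2) (n : G) (A : Subgroup G) :
    Prop where
  can : Can T V v i n
  le : A ≤ CC v i
  aX : ∀ a ∈ A, ∀ x ∈ XX V v i, a * x * a⁻¹ * x⁻¹ ∈ NU V v i
  mv : ¬ A ≤ centralizer (NU V v i : Set G)
  /-- (2) -/
  two : ∀ g, Fl V v i g → ∀ f ∈ A, f * (g * v i * g⁻¹) * f⁻¹ ≠ g * v i * g⁻¹ →
    f * (g * n * g⁻¹) * f⁻¹ * (g * n * g⁻¹)⁻¹ ∈ NU V v i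
  /-- beginning of (5) -/
  five : (∀ g, Fl V v i g → ∀ q ∈ QQ v i, q * (g * n * g⁻¹) = g * n * g⁻¹ * q) →
    QQ v i ≤ centralizer (XX V v i : Set G) →
    ∀ g, Fl V v i g → ∀ f ∈ A, f * (g * n * g⁻¹) * f⁻¹ * (g * n * g⁻¹)⁻¹ ∈ NU V v i

/-- the output of (3)-(5) -/
def LocF (T : Subgroup G) (V : Fin 2 → Subgroup G) (v : Fin 2 → G) (i : Fin 2) : Prop :=
  ∀ (n : G) (A : Subgroup G), ¬ Loc T V v i n A

/-- **(1b)** : `A ∈ AA(O)` moves `N_i` ⇒ `C_A(N_i)` moves `W_i` -/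
def OneB (T : Subgroup G) (V : Fin 2 → Subgroup G) (v : Fin 2 → G) (i : Fin 2) : Prop :=
  ∀ A : Subgroup G, A ∈ AA (o2 (centralizer (zc T : Set G))) → ¬ A ≤ centralizer (NU V v i : Set G) →
    ¬ A ⊓ centralizer (NU V v i : Set G) ≤ centralizer (WU V v i : Set G)

/-- **(1a)** : `(X_a, X_b)`, `a = (k, g)`, `b = (i, 1)`, a pair at the critical distance `m + 1` ⇒ `C_{X_a}(N_b)` moves
`X_b` -/
def OneA (_T : Subgroup G) (V : Fin 2 → Subgroup G) (v : Fin 2 → G) (i : Fin 2) : Prop :=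
  ∀ (m : ℕ) (k : Fin 2) (g : G), Comm (CC v) (XX V v) (m + 1) →
    (∀ r ≤ m, ∀ a c : Fin 2 × G, Near (CC v) r a c → vx (XX V v) a ≤ vx (QQ v) c) →
    Near (CC v) (m + 1) (k, g) (i, 1) →
    MulAut.conj g • XX V v k ≤ QQ v (i + 1) → XX V v i ≤ MulAut.conj g • QQ v (k + 1) →
    ¬ MulAut.conj g • XX V v k ≤ centralizer (XX V v i : Set G) →
    ¬ MulAut.conj g • XX V v k ⊓ centralizer (NU V v i : Set G) ≤ centralizer (XX V v i : Set G)

end Cfsg.Agent.Omega.TC.R
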