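import Cfsg.Agent.Omega.TC.No
import Cfsg.Agent.Omega.TC.Phi
import Cfsg.Agent.Omega.TC.SpF
import Cfsg.Agent.Omega.TC.FThree
import Cfsg.Agent.Omega.TC.ThmI
import Cfsg.Agent.Omega.OM.PG.Peel

/-!
# CARD #18791, THEOREM R (helper691 #21425), basic facts over `Fr`, no swap, no `J`

* `VOff T` : (V!) every `T`-invariant elementary abelian `X ≤ T`, `X ≰ Ω₁Z(T)`, has an offender in `T` (only the
  index inequality is used);
* `zc_o2` : (V!) gives `Ω₁Z(O₂(P i)) ≤ V i ⟨v j⟩`;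
* `XX V v i = W_i N_i`; `Fr.X_comm`, `Fr.X_sq`, `Fr.X_le_Q`, `Fr.comm_X_Q`, `Fr.C_le_N_X`;
* `Fr.nob_X` : `|B : C_B(X_i)| ≤ |X_i : C_{X_i}(B)|` for `B ≤ O₂(D)` elementary abelian;
* `absorb` : `N ≤ Y`, `|Y : C_Y(A)| ≤ |N : C_N(A)|` implies `[Y, A] ≤ N`.
-/

set_option autoImplicit false
set_option linter.unusedSectionVars false

namespace Cfsg.Agent.Omega.TC

open Subgroup Cfsg Cfsg.Agent.ZN Cfsg.Agent.Omega.MinPar
open Cfsg.Agent.Omega.OM.KTwo (CC QQ WU NU EU FF ne_add_one eq_add_one add_one_add_one le_normalizer_V le_V)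
open Cfsg.Agent.Omega.NoFF.Basic (conj_conj mem_conj conj_le_iff conj_le_centralizer comm_symm comm_mono
  Z_le_V V_le conj_V_mul)
open Cfsg.Agent.Omega.TC.ThmI (rel_le_two two_le_rel three_le_rel)
open Cfsg.Agent.Omega.OM.PG.Peel (Nob nob_of nob_two)
open Cfsg.Agent.Omega.NO3S.EThree.ExactA (eab_iff eab_mono)
open scoped Pointwise

universe u

variable {G : Type u} [Group G]

theorem fin2_cases {i j : Fin 2} (hij : i ≠ j) : (i = 0 ∧ j = 1) ∨ (i = 1 ∧ j = 0) := by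
  revert i j; decide

theorem card_rel {H K : Subgroup G} (h : H ≤ K) : Nat.card H * H.relIndex K = Nat.card K := by
  rw [← relIndex_bot_left (H := H), ← relIndex_bot_left (H := K)]
  exact relIndex_mul_relIndex _ _ _ bot_le h

/-- **(V!)**, index form -/
def VOff (T : Subgroup G) : Prop :=
  ∀ X : Subgroup G, X ≤ T → T ≤ normalizer (X : Set G) → X ≤ centralizer (X : Set G) → (∀ x ∈ X, x ^ 2 = 1) →
    ¬ X ≤ zc T → ∃ A ≤ T, ¬ A ≤ centralizer (X : Set G) ∧
      (centralizer (A : Set G)).relIndex X ≤ (centralizer (X : Set G)).relIndex A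

/-- the two uses of (V!) in THEOREM R (helper609 #23569 (3)): `T`-invariant elementary abelian `X`,
`V i ≤ X ≤ O = O₂(C(Ω₁Z(T)))`, has an offender in `T` -/
def WOff (T : Subgroup G) (V : Fin 2 → Subgroup G) (i : Fin 2) : Prop :=
  ∀ X : Subgroup G, V i ≤ X → X ≤ o2 (centralizer (zc T : Set G)) → T ≤ normalizer (X : Set G) →
    X ≤ centralizer (X : Set G) → (∀ x ∈ X, x ^ 2 = 1) → ∃ A ≤ T, ¬ A ≤ centralizer (X : Set G) ∧
      (centralizer (A : Set G)).relIndex X ≤ (centralizer (X : Set G)).relIndex A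

/-- `X_i = W_i N_i` -/
abbrev XX (V : Fin 2 → Subgroup G) (v : Fin 2 → G) (i : Fin 2) : Subgroup G := WU V v i ⊔ NU V v i

/-- `|Y : C_Y(A)| ≤ |N : C_N(A)|`, `N ≤ Y`: `[Y, A] ≤ N`. -/
theorem absorb [Finite G] {N Y A : Subgroup G} (hN : N ≤ Y) (Yc : Y ≤ centralizer (Y : Set G))
    (hn : A ≤ normalizer (N : Set G))
    (h : (centralizer (A : Set G)).relIndex Y ≤ (centralizer (A : Set G)).relIndex N) :
    ∀ y ∈ Y, ∀ a ∈ A, a * y * a⁻¹ * y⁻¹ ∈ N := by
  set K := Y ⊓ centralizer (A : Set G) with hK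
  have f1 : K.relIndex Y = (centralizer (A : Set G)).relIndex Y := inf_relIndex_left _ _
  have f3 : K.relIndex N = (centralizer (A : Set G)).relIndex N := by
    rw [← inf_relIndex_right K, ← inf_relIndex_right (centralizer (A : Set G)), hK, inf_comm Y, inf_assoc,
      inf_eq_right.2 hN]
  have f6 := relIndex_mul_relIndex K (N ⊔ K) Y le_sup_right (sup_le hN inf_le_left)
  have f7 : K.relIndex N ≤ K.relIndex (N ⊔ K) := relIndex_le_of_le_right le_sup_left index_ne_zero_of_finite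
  have f8 : 0 < K.relIndex (N ⊔ K) := OM.PG.Peel.rel_pos _ _
  have f9 : (N ⊔ K).relIndex Y ≤ 1 := by
    have f10 : K.relIndex (N ⊔ K) * (N ⊔ K).relIndex Y ≤ K.relIndex (N ⊔ K) * 1 := by
      rw [f6, f1, mul_one]
      exact h.trans (f3 ▸ f7)
    exact Nat.le_of_mul_le_mul_left f10 f8
  have f11 : 0 < (N ⊔ K).relIndex Y := OM.PG.Peel.rel_pos _ _
  have f12 : Y ≤ N ⊔ K := relIndex_eq_one.1 (by omega)
  have hNK : N ≤ centralizer (K : Set G) := fun n hn' => centralizer_le (inf_le_left : K ≤ Y) (Yc (hN hn'))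
  intro y hy a ha
  obtain ⟨n, hn', k, hk, rfl⟩ := OM.PG.Peel.exists_mul_of_comm hNK (f12 hy)
  have h1 : a * k = k * a := mem_centralizer_iff.1 hk.2 a ha
  have e : a * (n * k) * a⁻¹ * (n * k)⁻¹ = (a * n * a⁻¹) * n⁻¹ := by
    calc a * (n * k) * a⁻¹ * (n * k)⁻¹ = a * n * (k * a⁻¹) * k⁻¹ * n⁻¹ := by group
      _ = a * n * (a⁻¹ * k) * k⁻¹ * n⁻¹ := by
        have : k * a⁻¹ = a⁻¹ * k := by
          calc k * a⁻¹ = a⁻¹ * (a * k) * a⁻¹ := by group
            _ = a⁻¹ * k := by rw [h1]; group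
        rw [this]
      _ = _ := by group
  rw [e]
  exact mul_mem ((mem_normalizer_iff.1 (hn ha) n).1 hn') (inv_mem hn')

/-- the index inequality for a maximal elementary abelian group -/
theorem rel_le_of_max [Finite G] {A B Y O : Subgroup G} (hAe : IsElementaryAbelian 2 A) (hBA : B ≤ A)
    (hYe : IsElementaryAbelian 2 Y) (hBY : B ≤ centralizer (Y : Set G)) (hBO : B ≤ O) (hYO : Y ≤ O)
    (hmax : ∀ A' : Subgroup G, IsElementaryAbelian 2 A' → A' ≤ O → Nat.card A' ≤ Nat.card A) :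
    (centralizer (A : Set G)).relIndex Y ≤ B.relIndex A := by
  have hBe : IsElementaryAbelian 2 B := eab_mono hAe hBA
  have hsup : IsElementaryAbelian 2 (B ⊔ Y : Subgroup G) := by
    rw [eab_iff]
    have hB := eab_iff.1 hBe
    have hY := eab_iff.1 hYe
    have hc : B ⊔ Y ≤ centralizer ((B ⊔ Y : Subgroup G) : Set G) :=
      sup_le (comm_symm (sup_le hB.1 (comm_symm hBY))) (comm_symm (sup_le hBY hY.1))
    refine ⟨hc, ?_⟩
    intro x hx
    obtain ⟨b, hb, y, hy, rfl⟩ := OM.PG.Peel.exists_mul_of_comm hBY hx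
    have h1 : b * y = y * b := (mem_centralizer_iff.1 (hBY hb) y hy).symm
    calc (b * y) ^ 2 = b * (y * b) * y := by rw [pow_two]; group
      _ = b ^ 2 * y ^ 2 := by rw [← h1, pow_two, pow_two]; group
      _ = 1 := by rw [hB.2 b hb, hY.2 y hy, one_mul]
  have h1 := hmax _ hsup (sup_le hBO hYO)
  -- `B.relIndex (B ⊔ Y) ≤ B.relIndex A`
  have h2 : Nat.card B * B.relIndex (B ⊔ Y) = Nat.card (B ⊔ Y : Subgroup G) := card_rel le_sup_left
  have h3 : Nat.card B * B.relIndex A = Nat.card A := card_rel hBA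
  have h4 : B.relIndex (B ⊔ Y) ≤ B.relIndex A := by
    refine Nat.le_of_mul_le_mul_left ?_ (Nat.card_pos (α := B))
    rw [h2, h3]; exact h1
  refine le_trans ?_ h4
  refine le_trans ?_ (relIndex_le_of_le_right (le_sup_right : Y ≤ B ⊔ Y) index_ne_zero_of_finite)
  have hYN : Y ⊓ B ≤ centralizer (A : Set G) := inf_le_right.trans (hBA.trans (eab_iff.1 hAe).1)
  rw [← inf_relIndex_left Y B, ← inf_relIndex_left Y (centralizer (A : Set G))]
  exact relIndex_le_of_le_left (le_inf inf_le_left hYN) index_ne_zero_of_finite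

namespace Fr

variable [Finite G] {T : Subgroup G} {V P : Fin 2 → Subgroup G} {v : Fin 2 → G} (D : Fr T V P v)

include D

/-! ### (V!) -/

/-- **(V!)** gives `WOff` -/
theorem woff (hB : VOff T) (i : Fin 2) : WOff T V i := by
  intro X hVX hXO hXn hXc hX2
  refine hB X (hXO.trans D.o2D_le_T) hXn hXc hX2 fun h => ?_
  obtain ⟨e, he, he1, hev⟩ := D.exists_ne_v i
  refine hev (D.eq_v he he1 fun t ht => ?_)
  have h1 := (mem_zc.1 (h (hVX he))).2.1 t ht
  rw [h1, mul_inv_cancel_right]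

/-- `J(O)` moves `V i`, `O = O₂(C(Ω₁Z(T)))`, gives `WOff` -/
theorem woff_of_AA {i : Fin 2} {A : Subgroup G} (hA : A ∈ ChoiceBase.AA (o2 (centralizer (zc T : Set G))))
    (hm : ¬ A ≤ centralizer (V i : Set G)) : WOff T V i := by
  intro X hVX hXO _ hXc hX2
  refine ⟨A, hA.2.1.trans D.o2D_le_T, fun h => hm (h.trans (centralizer_le hVX)), ?_⟩
  have h1 := rel_le_of_max (A := A) (B := A ⊓ centralizer (X : Set G)) (Y := X)
    (O := o2 (centralizer (zc T : Set G))) hA.1 inf_le_left (eab_iff.2 ⟨hXc, hX2⟩) inf_le_right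
    (inf_le_left.trans hA.2.1) hXO hA.2.2
  rwa [inf_relIndex_left] at h1

/-- `Ω₁Z(O₂(P i)) ≤ O` -/
theorem zc_o2_le (i : Fin 2) : zc (o2 (P i)) ≤ o2 (centralizer (zc T : Set G)) := by
  have ho : o2 (P i) = T ⊓ centralizer (V i : Set G) := Phi.o2_P D i
  have hQo : QQ v (i + 1) ≤ o2 (P i) := by
    rw [ho]
    refine le_inf (D.Q_le_T _) ?_
    exact (D.half (ne_add_one i).symm).2
  intro x hx
  have hxT : x ∈ T := by
    have := zc_le _ hx
    rw [ho] at this
    exact this.1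
  exact D.Q_le_o2D (i + 1) (D.isChar2 (i + 1) ⟨D.T_le_C (i + 1) hxT,
    mem_centralizer_iff.2 fun q hq => (mem_zc.1 hx).2.1 q (hQo hq)⟩)

/-! ### `Ω₁Z(O₂(P i))` -/

/-- (V!) ⇒ `Ω₁Z(O₂(P i)) ≤ V i ⟨v j⟩` -/
theorem mem_zc_o2 {i : Fin 2} (hB : WOff T V i) {j : Fin 2} (hij : i ≠ j) {x : G} (hx : x ∈ zc (o2 (P i))) :
    ∃ a ∈ V i, x = a ∨ x = a * v j := by
  have ho : o2 (P i) = T ⊓ centralizer (V i : Set G) := Phi.o2_P D i
  have hoT : o2 (P i) ≤ T := by rw [ho]; exact inf_le_left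
  obtain ⟨e, he, he1, hev⟩ := D.exists_ne_v i
  set Y := zc (o2 (P i)) with hY
  have hYo : Y ≤ o2 (P i) := zc_le _
  have hVY : V i ≤ Y := by
    intro y hy
    rw [hY, mem_zc, ho]
    refine ⟨⟨D.V_le_T i hy, ?_⟩, fun t ht => ?_, D.sqV i y hy⟩
    · exact mem_centralizer_iff.2 fun z hz => D.V_comm hz hy
    · exact (mem_centralizer_iff.1 ht.2 y hy).symm
  have hYc : Y ≤ centralizer (Y : Set G) := by
    intro y hy
    rw [mem_centralizer_iff]
    intro z hz
    exact (mem_zc.1 hy).2.1 z (hYo hz)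
  have hYn : T ≤ normalizer (Y : Set G) :=
    ((D.T_le_P i).trans (le_normalizer_o2 _)).trans (MinSimple.VModule.normalizer_le_normalizer_zc _)
  obtain ⟨A, hAT, hAY, hle⟩ := hB Y hVY (D.zc_o2_le i) hYn hYc (fun x hx => (mem_zc.1 hx).2.2)
  have hoc : o2 (P i) ≤ centralizer (Y : Set G) := by
    intro t ht
    rw [mem_centralizer_iff]
    intro y hy
    exact ((mem_zc.1 hy).2.1 t ht).symm
  have h2 : (centralizer (Y : Set G)).relIndex A ≤ 2 := by
    refine rel_le_two fun x hx y hy hxn hyn => hoc ?_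
    exact Phi.mul_mem_o2 D (hAT hx) (fun h => hxn (hoc h)) (hAT hy) (fun h => hyn (hoc h))
  obtain ⟨a, ha, hac⟩ := SetLike.not_le_iff_exists.1 hAY
  have hao : a ∉ o2 (P i) := fun h => hac (hoc h)
  -- the elements of `Y` centralised by `a`
  have hYa : ∀ y ∈ Y, a * y = y * a → y ∈ zc T := by
    intro y hy hay
    refine mem_zc.2 ⟨hoT (hYo hy), fun t ht => ?_, (mem_zc.1 hy).2.2⟩
    by_cases hto : t ∈ o2 (P i)
    · exact (mem_zc.1 hy).2.1 t hto
    · have h3 := (mem_zc.1 hy).2.1 _ (Phi.mul_mem_o2 D (hAT ha) hao ht hto)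
      have h4 : a * (t * y) = a * (y * t) := by
        calc a * (t * y) = a * t * y := by group
          _ = y * (a * t) := h3
          _ = a * y * t := by rw [hay]; group
          _ = a * (y * t) := by group
      exact mul_left_cancel h4
  have h3 : (centralizer (A : Set G)).relIndex Y ≤ 2 := hle.trans h2
  -- conclusion
  have hxT : ∀ z ∈ zc T, ∃ a ∈ V i, z = a ∨ z = a * v j := by
    intro z hz
    have hc : v 0 * v 1 = v 1 * v 0 := D.comm_v 1 (D.v_mem_T 0)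
    have h0 := fin2_cases hij
    rcases (D.zT z).1 hz with h | h | h | h
    · exact ⟨1, one_mem _, Or.inl h⟩
    · rcases h0 with ⟨rfl, rfl⟩ | ⟨rfl, rfl⟩
      · exact ⟨v 0, D.mem 0, Or.inl h⟩
      · exact ⟨1, one_mem _, Or.inr (by rw [h, one_mul])⟩
    · rcases h0 with ⟨rfl, rfl⟩ | ⟨rfl, rfl⟩
      · exact ⟨1, one_mem _, Or.inr (by rw [h, one_mul])⟩
      · exact ⟨v 1, D.mem 1, Or.inl h⟩
    · rcases h0 with ⟨rfl, rfl⟩ | ⟨rfl, rfl⟩
      · exact ⟨v 0, D.mem 0, Or.inr h⟩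
      · exact ⟨v 1, D.mem 1, Or.inr (by rw [h, hc])⟩
  by_contra hcon
  have hxn : x ∉ centralizer (A : Set G) := fun h =>
    hcon (hxT x (hYa x hx (mem_centralizer_iff.1 h a ha)))
  have hen : e ∉ centralizer (A : Set G) := by
    intro h
    have h5 := hYa e (hVY he) (mem_centralizer_iff.1 h a ha)
    refine hev (D.eq_v he he1 fun t ht => ?_)
    rw [(mem_zc.1 h5).2.1 t ht, mul_inv_cancel_right]
  have hxen : x * e ∉ centralizer (A : Set G) := by
    intro h
    have h5 := hYa (x * e) (mul_mem hx (hVY he)) (mem_centralizer_iff.1 h a ha)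
    obtain ⟨b, hb, hbe⟩ := hxT _ h5
    apply hcon
    have hvj : v j * e = e * v j := by
      have := D.comm_v j (D.V_le_T i he)
      exact this.symm
    rcases hbe with hbe | hbe
    · exact ⟨b * e⁻¹, mul_mem hb (inv_mem he), Or.inl (by rw [← hbe]; group)⟩
    · refine ⟨b * e⁻¹, mul_mem hb (inv_mem he), Or.inr ?_⟩
      have h6 : x = b * v j * e⁻¹ := by rw [← hbe]; group
      rw [h6, mul_assoc, mul_assoc]
      congr 1
      calc v j * e⁻¹ = e⁻¹ * (e * v j) * e⁻¹ := by group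
        _ = e⁻¹ * v j := by rw [← hvj]; group
  have h4 := three_le_rel hx (hVY he) hxn hen hxen
  omega

/-! ### `X_i` -/

theorem X_comm (i : Fin 2) : XX V v i ≤ centralizer (XX V v i : Set G) := D.WN_comm i

theorem X_sq (i : Fin 2) : ∀ x ∈ XX V v i, x ^ 2 = 1 := D.WN_sq i

theorem X_eab (i : Fin 2) : IsElementaryAbelian 2 (XX V v i) := eab_iff.2 ⟨D.X_comm i, D.X_sq i⟩

theorem X_le_Q (i : Fin 2) : XX V v i ≤ QQ v i := sup_le (D.W_le_Q i) (D.N_le_Q i)

theorem X_le_T (i : Fin 2) : XX V v i ≤ T := (D.X_le_Q i).trans (D.Q_le_T i)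

theorem C_le_N_X (i : Fin 2) : CC v i ≤ normalizer (XX V v i : Set G) := by
  intro c hc
  refine ChoiceBase.mem_normalizer_iff_cj.2 ?_
  change MulAut.conj c • (WU V v i ⊔ NU V v i) = _
  rw [Subgroup.smul_sup, NOThreeL.Pair.conj_eq_of_mem (D.C_le_N_W i hc),
    NOThreeL.Pair.conj_eq_of_mem (D.C_le_N_N i hc)]

theorem zc_le_X (i : Fin 2) : zc T ≤ XX V v i :=
  (le_V _ _ : zc T ≤ EU T v i).trans (D.E_le_WN i)

theorem Q_le_C (i j : Fin 2) : QQ v i ≤ CC v j := (D.Q_le_T i).trans (D.T_le_C j)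

theorem V_le_X (i : Fin 2) : V i ≤ XX V v i := (D.V_le_W i).trans le_sup_left

theorem N_le_X (i : Fin 2) : NU V v i ≤ XX V v i := le_sup_right

/-- `[X_i, Q_i] ≤ ⟨v_i⟩` -/
theorem comm_X_Q (i : Fin 2) : ∀ x ∈ XX V v i, ∀ q ∈ QQ v i, x * q * x⁻¹ * q⁻¹ ∈ zpowers (v i) := by
  intro x hx q hq
  have h1 : NU V v i ≤ normalizer (WU V v i : Set G) := (D.N_le_C i i).trans (D.C_le_N_W i)
  obtain ⟨w, hw, n, hn, rfl⟩ := OM.KTwo.exists_mul_of_mem_sup h1 hx
  have h2 := D.comm_W_Q i w hw q hq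
  have h3 : n * q = q * n := mem_centralizer_iff.1 (D.Q_le_cent_N i hq) n hn
  have e : w * n * q * (w * n)⁻¹ * q⁻¹ = w * q * w⁻¹ * q⁻¹ := by
    calc w * n * q * (w * n)⁻¹ * q⁻¹ = w * (n * q) * n⁻¹ * w⁻¹ * q⁻¹ := by group
      _ = w * q * w⁻¹ * q⁻¹ := by rw [h3]; group
  rw [e]
  exact h2

/-- (NO) for `X_i` -/
theorem nob_X (hML : ML.Final.MLK.{u, u}) {i : Fin 2} (hK : IsKGroup (CC v i)) {B : Subgroup G}
    (hB : IsElementaryAbelian 2 B) (hBO : B ≤ o2 (centralizer (zc T : Set G))) : Nob (XX V v i) B := by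
  refine nob_of (D.N_le_X i) (D.no_N hML hK hBO (eab_iff.1 hB).2) ?_
  have hBQ : B ⊓ centralizer (NU V v i : Set G) ≤ QQ v i := (inf_le_inf_right _ hBO).trans (D.f3 i)
  refine nob_two (c := v i) (Q := QQ v i) (D.v_sq i) (fun b hb => ?_) (fun x hx b hb => ?_)
    (eab_mono hB inf_le_left) hBQ
  · exact mem_centralizer_singleton_iff.1 (D.Q_le_C i i hb)
  · have h1 := D.comm_X_Q i x hx b hb
    rcases D.mem_zpv h1 with h2 | h2
    · left
      have h3 : x * b = b * x := by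
        calc x * b = (x * b * x⁻¹ * b⁻¹) * (b * x) := by group
          _ = b * x := by rw [h2, one_mul]
      rw [← h3]; group
    · right
      have h3 : x * b = v i * (b * x) := by
        calc x * b = (x * b * x⁻¹ * b⁻¹) * (b * x) := by group
          _ = v i * (b * x) := by rw [h2]
      have h4 : b * x * b⁻¹ = v i * x := by
        calc b * x * b⁻¹ = v i * (v i * (b * x)) * b⁻¹ := by rw [← mul_assoc (v i) (v i), D.v_sq i, one_mul]
          _ = v i * (x * b) * b⁻¹ := by rw [h3]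
          _ = v i * x := by group
      rw [h4]
      have h5 : x * v i = v i * x := by
        exact mem_centralizer_singleton_iff.1 ((D.X_le_T i).trans (D.T_le_C i) hx)
      exact h5.symm

end Fr

end Cfsg.Agent.Omega.TC
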