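import Cfsg.Agent.Omega.TC.OneEnd
import Cfsg.Agent.Omega.TC.SecZero
import Cfsg.Agent.Omega.NO3S.EThree.TBig

/-!
# CARD #18791, THEOREM R (helper691 #21425), (6) (c): distance 1, without LEMMA FIX

`d_one (D : Fr T V P v) (h01 : [N_1, N_0] ≤ Ω₁Z(T)) : [N_0, N_1] = 1`.

* `In0` : `1 ≠ [N_i, N_j] ≤ Ω₁Z(T)`;
* `bd`, `ln` : helper925's data `Big.Bd`, `Big.Ln` for `E_i / ⟨v_i⟩`, so `N_j` induces exactly one transvection (`same`);
* `comm_eq` : `[N_i, N_j] = ⟨v_0 v_1⟩`; `fixE` : LEMMA FIX from section 0 of #19487 (`Fr.sec0`).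
-/

set_option autoImplicit false
set_option linter.unusedSectionVars false

namespace Cfsg.Agent.Omega.TC.R.DOneR

open Subgroup Cfsg Cfsg.Agent.ZN Cfsg.Agent.Omega.MinPar
open Cfsg.Agent.Omega.OM.KTwo (CC QQ WU NU EU FF ne_add_one eq_add_one add_one_add_one le_normalizer_V le_V)
open Cfsg.Agent.Omega.NoFF.Basic (conj_conj mem_conj conj_le_iff conj_le_centralizer comm_symm comm_mono
  Z_le_V V_le conj_V_mul)
open Cfsg.Agent.MinSimple.VModule (mem_zc zc_le)
open Cfsg.Agent.Omega.TC.DOne Cfsg.Agent.Omega.TC.OneEnd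
open Cfsg.Agent.Omega.NO3S.EThree
open scoped Pointwise

universe u

variable {G : Type u} [Group G] [Finite G] {T : Subgroup G} {V P : Fin 2 → Subgroup G} {v : Fin 2 → G}

section side

variable (D : Fr T V P v) {i : Fin 2}
  (hc : ∀ x ∈ NU V v (i + 1), ∀ e ∈ NU V v i, x * e * x⁻¹ * e⁻¹ ∈ zc T)
  (hne : ¬ NU V v (i + 1) ≤ centralizer (NU V v i : Set G))
  {M : Type u} [AddCommGroup M] [DistribMulAction (CC v i) M] {p : G → M}
  (s : Sec (EU T v i) (zpowers (v i)) (CC v i) M p)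

include D s

theorem madd (m : M) : m + m = 0 := s.add_self (fun x hx => by
    rw [← pow_two, D.E_sq i x hx]
    exact one_mem _) m

theorem mneg (m : M) : -m = m := neg_eq_of_add_eq_zero_left (madd D s m)

/-- the points -/
def pt (_s : Sec (EU T v i) (zpowers (v i)) (CC v i) M p) (c : CC v i) : AddSubgroup M :=
  AddSubgroup.zmultiples (c • p (v (i + 1)))

theorem mem_pt {c : CC v i} {m : M} : m ∈ pt s c ↔ m = 0 ∨ m = c • p (v (i + 1)) := by
  have h2 := madd D s (c • p (v (i + 1)))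
  constructor
  · intro h
    obtain ⟨k, rfl⟩ := AddSubgroup.mem_zmultiples_iff.1 h
    rcases Int.even_or_odd' k with ⟨l, hl | hl⟩
    · left
      rw [hl, mul_comm, mul_zsmul, two_zsmul, h2, zsmul_zero]
    · right
      rw [hl, add_zsmul, one_zsmul, mul_comm, mul_zsmul, two_zsmul, h2, zsmul_zero, zero_add]
  · rintro (rfl | rfl)
    · exact zero_mem _
    · exact AddSubgroup.mem_zmultiples _

theorem pt_ne (c : CC v i) : c • p (v (i + 1)) ≠ 0 := by
  intro h
  exact p_vj D s (by rwa [smul_eq_zero_iff_eq] at h)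

theorem pt_eq {c d : CC v i} (h : pt s c = pt s d) : c • p (v (i + 1)) = d • p (v (i + 1)) := by
  have h1 : c • p (v (i + 1)) ∈ pt s d := by
    rw [← h, mem_pt D s]
    exact Or.inr rfl
  exact ((mem_pt D s).1 h1).resolve_left (pt_ne D s c)

theorem pt_congr {c d : CC v i} (h : c • p (v (i + 1)) = d • p (v (i + 1))) : pt s c = pt s d := by
  unfold pt
  rw [h]

theorem card_pt (c : CC v i) : Nat.card (pt s c) = 2 := by
  unfold pt
  rw [Nat.card_zmultiples]
  refine addOrderOf_eq_prime ?_ (pt_ne D s c)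
  rw [two_nsmul]
  exact madd D s _

/-- conjugation with the stabiliser of `p (v (i+1))` -/
theorem conj_N {c d t : CC v i} (h : c • p (v (i + 1)) = d • p (v (i + 1)))
    (ht : ((c⁻¹ * t * c : CC v i) : G) ∈ NU V v (i + 1)) : ((d⁻¹ * t * d : CC v i) : G) ∈ NU V v (i + 1) := by
  have h1 : (d⁻¹ * c) • p (v (i + 1)) = p (v (i + 1)) := by rw [mul_smul, h, inv_smul_smul]
  have h2 := stab D s h1
  have h3 := (mem_normalizer_iff.1 (D.C_le_N_N (i + 1) (D.cent_zc_le (i + 1) h2)) _).1 ht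
  have e : ((d⁻¹ * c : CC v i) : G) * ((c⁻¹ * t * c : CC v i) : G) * (((d⁻¹ * c : CC v i) : G))⁻¹ =
      ((d⁻¹ * t * d : CC v i) : G) := by
    push_cast; group
  rwa [e] at h3

/-- `N_j ≤ C_i` fixes `p (v j)` -/
theorem fix_u {t : CC v i} (ht : (t : G) ∈ NU V v (i + 1)) : t • p (v (i + 1)) = p (v (i + 1)) := by
  rw [s.act t _ (D.v_mem_E i (i + 1))]
  congr 1
  have h1 : (t : G) * v (i + 1) = v (i + 1) * t := mem_centralizer_singleton_iff.1 (D.N_le_C (i + 1) (i + 1) ht)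
  rw [h1, mul_inv_cancel_right]

theorem fix_c {c t : CC v i} (ht : ((c⁻¹ * t * c : CC v i) : G) ∈ NU V v (i + 1)) :
    t • c • p (v (i + 1)) = c • p (v (i + 1)) := by
  have h1 := fix_u D s ht
  rw [mul_smul, mul_smul, inv_smul_eq_iff] at h1
  exact h1

include hc

theorem act_u {t : CC v i} (ht : (t : G) ∈ NU V v (i + 1)) (m : M) : t • m = m ∨ t • m = m + p (v (i + 1)) := by
  have hE : ∀ e ∈ EU T v i, (t : G) * e * (t : G)⁻¹ * e⁻¹ ∈ zc T := by
    intro e he
    obtain ⟨n, hn, y, hy, rfl⟩ := OneEnd.In.exists_mul D he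
    have h1 := hc _ ht _ hn
    have h2 : (t : G) * y * (t : G)⁻¹ = y := cz_comm i t.2 hy
    have e1 : (t : G) * (n * y) * (t : G)⁻¹ * (n * y)⁻¹ =
        (t : G) * n * (t : G)⁻¹ * n⁻¹ * (n * ((t : G) * y * (t : G)⁻¹ * y⁻¹) * n⁻¹) := by group
    rw [e1, h2, mul_inv_cancel, mul_one, mul_inv_cancel, mul_one]
    exact h1
  obtain ⟨e, he, rfl⟩ := s.surj m
  rw [s.act t _ he]
  have h1 := hE e he
  have h2 : (t : G) * e * (t : G)⁻¹ = (t : G) * e * (t : G)⁻¹ * e⁻¹ * e := by group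
  have h3 : zc T ≤ EU T v i := le_V _ _
  rw [h2, s.mul _ (h3 h1) _ he]
  rcases p_zc D s h1 with h4 | h4
  · rw [h4, zero_add]
    exact Or.inl rfl
  · rw [h4, add_comm]
    exact Or.inr rfl

theorem act_c {c t : CC v i} (ht : ((c⁻¹ * t * c : CC v i) : G) ∈ NU V v (i + 1)) (m : M) :
    t • m = m ∨ t • m = m + c • p (v (i + 1)) := by
  rcases act_u D hc s ht (c⁻¹ • m) with h | h
  · left
    rw [mul_smul, mul_smul, smul_inv_smul] at h
    exact (smul_left_cancel_iff c⁻¹).1 h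
  · right
    rw [mul_smul, mul_smul, smul_inv_smul] at h
    have h1 := congrArg (fun y => c • y) h
    simp only [smul_add, smul_inv_smul] at h1
    exact h1

theorem act_c' {c t : CC v i} (ht : ((c⁻¹ * t * c : CC v i) : G) ∈ NU V v (i + 1)) (m : M) :
    t • m - m ∈ pt s c := by
  rw [mem_pt D s]
  rcases act_c D hc s ht m with h | h
  · left; rw [h, sub_self]
  · right; rw [h, add_sub_cancel_left]

/-- `t` fixes the vectors of `pt s c` -/
theorem fix_pt {c t : CC v i} (ht : ((c⁻¹ * t * c : CC v i) : G) ∈ NU V v (i + 1)) {m : M} (hm : m ∈ pt s c) :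
    t • m = m := by
  rcases (mem_pt D s).1 hm with h | h
  · rw [h, smul_zero]
  · rw [h, fix_c D s ht]

/-- the endomorphisms of the point `p` -/
def Te : AddSubgroup M → AddSubgroup (M →+ M) := fun q =>
  { carrier := {η | ∀ c : CC v i, q = pt s c → ∃ t : CC v i, ((c⁻¹ * t * c : CC v i) : G) ∈ NU V v (i + 1) ∧
      ∀ m, η m = t • m - m}
    zero_mem' := fun c hq => ⟨1, by simp, fun m => by rw [one_smul, sub_self]; rfl⟩
    add_mem' := by
      intro η η' hη hη' c hq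
      obtain ⟨t, ht, h1⟩ := hη c hq
      obtain ⟨t', ht', h2⟩ := hη' c hq
      refine ⟨t * t', ?_, fun m => ?_⟩
      · have e : c⁻¹ * (t * t') * c = (c⁻¹ * t * c) * (c⁻¹ * t' * c) := by group
        rw [e]
        exact mul_mem ht ht'
      · have h3 := fix_pt D hc s ht (act_c' D hc s ht' m)
        rw [smul_sub] at h3
        rw [AddMonoidHom.add_apply, h1, h2, mul_smul]
        have h4 : t • t' • m = t • m + (t' • m - m) := by rw [← h3]; abel
        rw [h4]; abel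
    neg_mem' := by
      intro η hη c hq
      obtain ⟨t, ht, h1⟩ := hη c hq
      refine ⟨t⁻¹, ?_, fun m => ?_⟩
      · have e : c⁻¹ * t⁻¹ * c = (c⁻¹ * t * c)⁻¹ := by group
        rw [e]
        exact inv_mem ht
      · have h3 := fix_pt D hc s ht (act_c' D hc s ht m)
        have h4 : t • (m - (t • m - m)) = m := by rw [smul_sub, h3]; abel
        have h5 : t⁻¹ • m = m - (t • m - m) := by rw [inv_smul_eq_iff, h4]
        rw [AddMonoidHom.neg_apply, h1, h5]; abel }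

theorem mem_Te {c : CC v i} {η : M →+ M} :
    η ∈ Te D hc s (pt s c) ↔ ∃ t : CC v i, ((c⁻¹ * t * c : CC v i) : G) ∈ NU V v (i + 1) ∧ ∀ m, η m = t • m - m := by
  constructor
  · intro h
    exact h c rfl
  · rintro ⟨t, ht, h⟩ d hd
    exact ⟨t, conj_N D s (pt_eq D s hd) ht, h⟩

/-- the endomorphism of `t` -/
def eta (t : CC v i) : M →+ M := DistribSMul.toAddMonoidHom M t - AddMonoidHom.id M

omit D s hc in
theorem eta_apply (t : CC v i) (m : M) : eta (M := M) t m = t • m - m := rfl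

omit hc in
theorem span {η : M →+ M} (h : ∀ c : CC v i, η (c • p (v (i + 1))) = 0) : η = 0 := by
  have h1 : ∀ e ∈ EU T v i, e ∈ EU T v i ∧ η (p e) = 0 := by
    let K : Subgroup G :=
      { carrier := {e | e ∈ EU T v i ∧ η (p e) = 0}
        one_mem' := ⟨one_mem _, by rw [s.one, map_zero]⟩
        mul_mem' := by
          rintro a b ⟨ha, ha'⟩ ⟨hb, hb'⟩
          exact ⟨mul_mem ha hb, by rw [s.mul _ ha _ hb, map_add, ha', hb', add_zero]⟩
        inv_mem' := by
          rintro a ⟨ha, ha'⟩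
          exact ⟨inv_mem ha, by rw [s.inv ha, map_neg, ha', neg_zero]⟩ }
    have h2 : EU T v i ≤ K := by
      refine V_le fun c hc x hx => ?_
      rw [mem_conj] at hx
      have hE : c⁻¹ * x * c ∈ EU T v i := le_V _ _ hx
      have e : x = c * (c⁻¹ * x * c) * c⁻¹ := by group
      have h3 : c * (c⁻¹ * x * c) * c⁻¹ ∈ EU T v i := (mem_normalizer_iff.1 (D.C_le_N_E i hc) _).1 hE
      refine ⟨by rw [e]; exact h3, ?_⟩
      have h4 := s.act ⟨c, hc⟩ _ hE
      have h5 : p x = (⟨c, hc⟩ : CC v i) • p (c⁻¹ * x * c) := by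
        rw [h4]
        congr 1
      rw [h5]
      rcases p_zc D s hx with h6 | h6
      · rw [h6, smul_zero, map_zero]
      · rw [h6]; exact h ⟨c, hc⟩
    exact fun e he => h2 he
  ext m
  obtain ⟨e, he, rfl⟩ := s.surj m
  exact (h1 e he).2

theorem card_Te_le (c d : CC v i) : Nat.card (Te D hc s (pt s c)) ≤ Nat.card (Te D hc s (pt s d)) := by
  have := s.finite
  have : Finite (M →+ M) := Big.Bd.finite_hom
  set g : CC v i := d * c⁻¹ with hg
  let F : (M →+ M) → (M →+ M) := fun η =>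
    ((DistribSMul.toAddMonoidHom M g).comp η).comp (DistribSMul.toAddMonoidHom M g⁻¹)
  have hFa : ∀ η m, F η m = g • η (g⁻¹ • m) := fun _ _ => rfl
  have hF : ∀ η ∈ Te D hc s (pt s c), F η ∈ Te D hc s (pt s d) := by
    intro η hη
    obtain ⟨t, ht, h⟩ := (mem_Te D hc s).1 hη
    refine (mem_Te D hc s).2 ⟨g * t * g⁻¹, ?_, fun m => ?_⟩
    · have e : d⁻¹ * (g * t * g⁻¹) * d = c⁻¹ * t * c := by rw [hg]; group
      rw [e]
      exact ht
    · rw [hFa, h, smul_sub, smul_inv_smul]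
      congr 1
      rw [mul_smul (g * t) g⁻¹ m, mul_smul g t (g⁻¹ • m)]
  refine Nat.card_le_card_of_injective (fun η : Te D hc s (pt s c) => (⟨F η.1, hF η.1 η.2⟩ : Te D hc s (pt s d))) ?_
  intro η η' e
  apply Subtype.ext
  have h1 : F η.1 = F η'.1 := congrArg Subtype.val e
  ext m
  have h2 : F η.1 (g • m) = F η'.1 (g • m) := by rw [h1]
  rw [hFa, hFa, inv_smul_smul, smul_left_cancel_iff] at h2
  exact h2

include hne

theorem bd : Big.Bd (Set.range (pt s)) (Te D hc s) where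
  ne := by
    rintro _ ⟨c, rfl⟩
    exact ⟨_, (mem_pt D s).2 (Or.inr rfl), pt_ne D s c⟩
  ti := by
    rintro _ ⟨c, rfl⟩ _ ⟨d, rfl⟩ m h1 h2 h0
    have k1 := ((mem_pt D s).1 h1).resolve_left h0
    have k2 := ((mem_pt D s).1 h2).resolve_left h0
    exact pt_congr D s (k1.symm.trans k2)
  im := by
    rintro _ ⟨c, rfl⟩ η hη m
    obtain ⟨t, ht, h1⟩ := (mem_Te D hc s).1 hη
    rw [h1]
    exact act_c' D hc s ht m
  ker := by
    rintro _ ⟨c, rfl⟩ η hη m hm
    obtain ⟨t, ht, h1⟩ := (mem_Te D hc s).1 hη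
    rw [h1, fix_pt D hc s ht hm, sub_self]
  one := by
    rintro _ ⟨c, rfl⟩ _ ⟨d, rfl⟩ η hη b hb hb0 h0 w hw
    have k1 := ((mem_pt D s).1 hb).resolve_left hb0
    rcases (mem_pt D s).1 hw with k2 | k2
    · rw [k2, map_zero]
    · rw [k2, ← k1, h0]
  cl := by
    rintro _ ⟨c, rfl⟩ _ ⟨d, rfl⟩ φ hφ ψ hψ hk
    obtain ⟨x, hx, h1⟩ := (mem_Te D hc s).1 hφ
    obtain ⟨t, ht, h2⟩ := (mem_Te D hc s).1 hψ
    have kφ : ∀ m, φ (φ m) = 0 := by
      intro m
      rw [h1 (φ m), fix_pt D hc s hx (by rw [h1]; exact act_c' D hc s hx m), sub_self]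
    have kψ : ∀ m, ψ (ψ m) = 0 := by
      intro m
      rw [h2 (ψ m), fix_pt D hc s ht (by rw [h2]; exact act_c' D hc s ht m), sub_self]
    have kk : ∀ m, ψ (φ m) = 0 := fun m => hk _ (by rw [h1]; exact act_c' D hc s hx m)
    have htc : t • c • p (v (i + 1)) = c • p (v (i + 1)) := by
      have h3 := hk _ ((mem_pt D s).2 (Or.inr rfl))
      rw [h2, sub_eq_zero] at h3
      exact h3
    have inv1 : ∀ m, x⁻¹ • m = m - φ m := by
      intro m
      rw [inv_smul_eq_iff]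
      have h3 := h1 (m - φ m)
      rw [map_sub, kφ, sub_zero] at h3
      have h4 : x • (m - φ m) = (x • (m - φ m) - (m - φ m)) + (m - φ m) := by abel
      rw [h4, ← h3]; abel
    have inv2 : ∀ m, t⁻¹ • m = m - ψ m := by
      intro m
      rw [inv_smul_eq_iff]
      have h3 := h2 (m - ψ m)
      rw [map_sub, kψ, sub_zero] at h3
      have h4 : t • (m - ψ m) = (t • (m - ψ m) - (m - ψ m)) + (m - ψ m) := by abel
      rw [h4, ← h3]; abel
    have a1 : ∀ m, x • m = m + φ m := fun m => by rw [h1]; abel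
    have a2 : ∀ m, t • m = m + ψ m := fun m => by rw [h2]; abel
    refine (mem_Te D hc s).2 ⟨x * (t * x⁻¹ * t⁻¹), ?_, fun m => ?_⟩
    · have e : c⁻¹ * (x * (t * x⁻¹ * t⁻¹)) * c = (c⁻¹ * x * c) * (c⁻¹ * (t * x⁻¹ * t⁻¹) * c) := by group
      rw [e]
      refine mul_mem hx ?_
      have h5 : (t⁻¹ * c) • p (v (i + 1)) = c • p (v (i + 1)) := by
        rw [mul_smul, inv_smul_eq_iff]
        exact htc.symm
      have h6 : ((c⁻¹ * x⁻¹ * c : CC v i) : G) ∈ NU V v (i + 1) := by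
        have e : c⁻¹ * x⁻¹ * c = (c⁻¹ * x * c)⁻¹ := by group
        rw [e]
        exact inv_mem hx
      have h7 := conj_N D s (c := c) (d := t⁻¹ * c) (t := x⁻¹) h5.symm h6
      have e2 : c⁻¹ * (t * x⁻¹ * t⁻¹) * c = (t⁻¹ * c)⁻¹ * x⁻¹ * (t⁻¹ * c) := by group
      rw [e2]
      exact h7
    · show φ (ψ m) = _
      rw [mul_smul, mul_smul, mul_smul, inv2, inv1, a2, a1]
      simp only [map_sub, map_add, kφ, kψ, kk, map_zero]
      abel
  sur := by
    rintro _ ⟨c, rfl⟩ _ ⟨d, rfl⟩ ⟨η, hη, w, hw, h0⟩ b hb hb0 a ha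
    have hw0 : w ≠ 0 := by
      rintro rfl
      exact h0 (map_zero _)
    have k1 := ((mem_pt D s).1 hb).resolve_left hb0
    have k2 := ((mem_pt D s).1 hw).resolve_left hw0
    rcases (mem_pt D s).1 ha with k3 | k3
    · exact ⟨0, zero_mem _, k3.symm⟩
    · refine ⟨η, hη, ?_⟩
      obtain ⟨t, ht, h1⟩ := (mem_Te D hc s).1 hη
      have h2 : η b ∈ pt s c := by
        rw [h1]
        exact act_c' D hc s ht b
      have h3 : η b ≠ 0 := by rw [k1, ← k2]; exact h0
      rw [k3]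
      exact ((mem_pt D s).1 h2).resolve_left h3
  cardP := by
    rintro _ ⟨c, rfl⟩ _ ⟨d, rfl⟩
    rw [card_pt D s, card_pt D s]
  cardT := by
    rintro _ ⟨c, rfl⟩ _ ⟨d, rfl⟩
    exact le_antisymm (card_Te_le D hc s c d) (card_Te_le D hc s d c)
  span := by
    intro η h
    exact span D s fun c => h _ ⟨c, rfl⟩ _ ((mem_pt D s).2 (Or.inr rfl))
  nbr := by
    rintro _ ⟨c, rfl⟩
    by_contra hcon
    push Not at hcon
    apply hne
    intro x hx
    have hxC : x ∈ CC v i := D.N_le_C (i + 1) i hx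
    have h1 : eta (M := M) (c * ⟨x, hxC⟩ * c⁻¹) ∈ Te D hc s (pt s c) := by
      refine (mem_Te D hc s).2 ⟨c * ⟨x, hxC⟩ * c⁻¹, ?_, fun m => rfl⟩
      have e : c⁻¹ * (c * ⟨x, hxC⟩ * c⁻¹) * c = ⟨x, hxC⟩ := by group
      rw [e]
      exact hx
    have h2 : eta (M := M) (c * ⟨x, hxC⟩ * c⁻¹) = 0 := by
      refine span D s fun d => ?_
      by_contra h3
      exact hcon _ ⟨d, rfl⟩ ⟨_, h1, _, (mem_pt D s).2 (Or.inr rfl), h3⟩
    refine cent_of_triv D s hxC fun m => ?_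
    have h3 : eta (M := M) (c * ⟨x, hxC⟩ * c⁻¹) (c • m) = 0 := by rw [h2]; rfl
    rw [eta_apply, mul_smul, mul_smul, inv_smul_smul, ← smul_sub, smul_eq_zero_iff_eq, sub_eq_zero] at h3
    exact h3

theorem ln : Big.Ln (Set.range (pt s)) (Te D hc s) (s.im (V (i + 1)) (D.V_le_E i)) where
  cov := by
    rintro _ ⟨x, hx, rfl⟩ h0
    have hx1 : x ≠ 1 := by
      rintro rfl
      exact h0 s.one
    obtain ⟨l, hl, -, hlx⟩ := D.tr (ne_add_one i).symm hx hx1
    have hlC : l ∈ CC v i := D.PC (i + 1) i (ne_add_one i).symm hl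
    have e : (⟨l, hlC⟩ : CC v i) • p (v (i + 1)) = p x := by
      rw [s.act ⟨l, hlC⟩ _ (D.v_mem_E i (i + 1))]
      exact congrArg p hlx
    refine ⟨pt s ⟨l, hlC⟩, ⟨_, rfl⟩, fun m hm => ?_, (mem_pt D s).2 (Or.inr e.symm)⟩
    rcases (mem_pt D s).1 hm with h | h
    · rw [h]; exact zero_mem _
    · rw [h, e]; exact ⟨x, hx, rfl⟩
  perp := by
    rintro _ ⟨c, rfl⟩ hcV _ ⟨d, rfl⟩ hdV ⟨η, hη, w, hw, h0⟩
    obtain ⟨x, hx, hxe⟩ := hcV ((mem_pt D s).2 (Or.inr rfl))
    have hx1 : x ≠ 1 := by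
      rintro rfl
      exact pt_ne D s c (hxe.symm.trans s.one)
    obtain ⟨l, hl, -, hlx⟩ := D.tr (ne_add_one i).symm hx hx1
    have hlC : l ∈ CC v i := D.PC (i + 1) i (ne_add_one i).symm hl
    have e : (⟨l, hlC⟩ : CC v i) • p (v (i + 1)) = c • p (v (i + 1)) := by
      rw [s.act ⟨l, hlC⟩ _ (D.v_mem_E i (i + 1)), ← hxe]
      exact congrArg p hlx
    obtain ⟨t, ht, h1⟩ := (mem_Te D hc s).1 hη
    have ht' := conj_N D s e.symm ht
    obtain ⟨y, hy, rfl⟩ := hdV hw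
    apply h0
    rw [h1, s.act t _ (D.V_le_E i hy), sub_eq_zero]
    congr 1
    -- `t` centralises `V j`
    have hy' : l⁻¹ * y * l ∈ V (i + 1) := (mem_normalizer_iff''.1 (D.PN (i + 1) (i + 1) hl) y).1 hy
    have h2 : l⁻¹ * y * l * ((((⟨l, hlC⟩ : CC v i)⁻¹ * t * ⟨l, hlC⟩ : CC v i)) : G) =
        ((((⟨l, hlC⟩ : CC v i)⁻¹ * t * ⟨l, hlC⟩ : CC v i)) : G) * (l⁻¹ * y * l) := by
      have h3 := D.WN_comm (i + 1) (mem_sup_right ht')
      exact (mem_centralizer_iff.1 h3) _ (mem_sup_left (D.V_le_W (i + 1) hy'))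
    have h4 : y * (t : G) = t * y := by
      have h5 := congrArg (fun g => l * g * l⁻¹) h2
      push_cast at h5
      simpa [mul_assoc] using h5
    rw [← h4, mul_inv_cancel_right]
  gen := by
    rintro _ ⟨c, rfl⟩ hcV _ ⟨d, rfl⟩ hdV hne'
    obtain ⟨x, hx, hxe⟩ := hcV ((mem_pt D s).2 (Or.inr rfl))
    obtain ⟨y, hy, hye⟩ := hdV ((mem_pt D s).2 (Or.inr rfl))
    have hx1 : x ≠ 1 := by
      rintro rfl
      exact pt_ne D s c (hxe.symm.trans s.one)
    have hy1 : y ≠ 1 := by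
      rintro rfl
      exact pt_ne D s d (hye.symm.trans s.one)
    have hxy : x ≠ y := by
      rintro rfl
      exact hne' (pt_congr D s (hxe.symm.trans hye))
    rintro _ ⟨w, hw, rfl⟩
    have hcm : p x ∈ pt s c ⊔ pt s d := AddSubgroup.mem_sup_left ((mem_pt D s).2 (Or.inr hxe))
    have hdm : p y ∈ pt s c ⊔ pt s d := AddSubgroup.mem_sup_right ((mem_pt D s).2 (Or.inr hye))
    by_cases hw1 : w = 1
    · rw [hw1, s.one]; exact zero_mem _
    · rcases D.eq_of_V hx hx1 hy hy1 hxy hw hw1 with h | h | h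
      · rw [h]; exact hcm
      · rw [h]; exact hdm
      · rw [h, s.mul _ (D.V_le_E i hx) _ (D.V_le_E i hy)]
        exact add_mem hcm hdm
  two := by
    rintro _ ⟨c, rfl⟩ hcV
    obtain ⟨x, hx, hxe⟩ := hcV ((mem_pt D s).2 (Or.inr rfl))
    obtain ⟨a, ha, ha1, hav⟩ := D.exists_ne_v (i + 1)
    have key : ∀ y ∈ V (i + 1), y ≠ 1 → y ≠ x → ∃ q ∈ Set.range (pt s), q ≤ s.im (V (i + 1)) (D.V_le_E i) ∧
        q ≠ pt s c := by
      intro y hy hy1 hyx
      obtain ⟨l, hl, -, hlx⟩ := D.tr (ne_add_one i).symm hy hy1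
      have hlC : l ∈ CC v i := D.PC (i + 1) i (ne_add_one i).symm hl
      have e : (⟨l, hlC⟩ : CC v i) • p (v (i + 1)) = p y := by
        rw [s.act ⟨l, hlC⟩ _ (D.v_mem_E i (i + 1))]
        exact congrArg p hlx
      refine ⟨pt s ⟨l, hlC⟩, ⟨_, rfl⟩, fun m hm => ?_, fun h => ?_⟩
      · rcases (mem_pt D s).1 hm with h | h
        · rw [h]; exact zero_mem _
        · rw [h, e]; exact ⟨y, hy, rfl⟩
      · have h1 := pt_eq D s h
        rw [e, ← hxe, s.eq_iff (D.V_le_E i hy) (D.V_le_E i hx)] at h1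
        exact hyx (mul_inv_eq_one.1 (notin_V D (mul_mem hy (inv_mem hx)) h1))
    by_cases h : x = a
    · exact key (v (i + 1)) (D.mem _) (D.ne _) (by rw [h]; exact hav.symm)
    · exact key a ha ha1 (Ne.symm h)
  ex := ⟨pt s 1, ⟨_, rfl⟩, fun m hm => by
    rcases (mem_pt D s).1 hm with h | h
    · rw [h]; exact zero_mem _
    · rw [h, one_smul]; exact ⟨v (i + 1), D.mem _, rfl⟩⟩

/-- only one transvection -/
theorem card_le : Nat.card (Te D hc s (pt s 1)) ≤ 2 := by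
  have := s.finite
  by_contra hcon
  push Not at hcon
  refine (bd D hc hne s).false_of_line ?_ (ln D hc hne s)
  rintro _ ⟨c, rfl⟩
  rw [card_pt D s, (bd D hc hne s).cardT _ ⟨c, rfl⟩ _ ⟨1, rfl⟩]
  exact hcon

theorem same' {x y : CC v i} (hx : (x : G) ∈ NU V v (i + 1)) (hy : (y : G) ∈ NU V v (i + 1))
    (hx' : (x : G) ∉ centralizer (NU V v i : Set G)) (hy' : (y : G) ∉ centralizer (NU V v i : Set G)) (m : M) :
    x • m = y • m := by
  have := s.finite
  have : Finite (M →+ M) := Big.Bd.finite_hom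
  have hmem : ∀ z : CC v i, (z : G) ∈ NU V v (i + 1) → eta (M := M) z ∈ Te D hc s (pt s 1) := by
    intro z hz
    refine (mem_Te D hc s).2 ⟨z, ?_, fun m => rfl⟩
    rw [inv_one, one_mul, mul_one]
    exact hz
  have hn0 : ∀ z : CC v i, (z : G) ∉ centralizer (NU V v i : Set G) → eta (M := M) z ≠ 0 := by
    intro z hz h0
    apply hz
    refine cent_of_triv D s z.2 fun m => ?_
    have h1 : eta (M := M) z m = 0 := by rw [h0]; rfl
    rw [eta_apply, sub_eq_zero] at h1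
    exact h1
  have h2 : eta (M := M) x = eta y := by
    by_contra hne'
    have h3 := card_le D hc hne s
    have : Finite (Te D hc s (pt s 1)) := inferInstance
    have h4 : ({⟨eta x, hmem x hx⟩, ⟨eta y, hmem y hy⟩, 0} : Set (Te D hc s (pt s 1))).ncard = 3 := by
      apply Set.ncard_eq_three.2
      refine ⟨_, _, _, ?_, ?_, ?_, rfl⟩
      · intro h; exact hne' (congrArg Subtype.val h)
      · intro h; exact hn0 x hx' (congrArg Subtype.val h)
      · intro h; exact hn0 y hy' (congrArg Subtype.val h)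
    have h5 := Set.ncard_le_card ({⟨eta x, hmem x hx⟩, ⟨eta y, hmem y hy⟩, 0} : Set (Te D hc s (pt s 1)))
    omega
  have h3 : eta (M := M) x m = eta y m := by rw [h2]
  rw [eta_apply, eta_apply] at h3
  exact sub_left_injective h3

end side

/-- the situation -/
structure In0 (T : Subgroup G) (V P : Fin 2 → Subgroup G) (v : Fin 2 → G) : Prop where
  fr : Fr T V P v
  comm : ∀ i j, i ≠ j → ∀ x ∈ NU V v j, ∀ e ∈ NU V v i, x * e * x⁻¹ * e⁻¹ ∈ zc T
  ne : ∀ i j, i ≠ j → ¬ NU V v j ≤ centralizer (NU V v i : Set G)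

namespace In0

variable (h : In0 T V P v)
include h

theorem same {i j : Fin 2} (hij : i ≠ j) {x y : G} (hx : x ∈ NU V v j) (hy : y ∈ NU V v j)
    (hx' : x ∉ centralizer (NU V v i : Set G)) (hy' : y ∉ centralizer (NU V v i : Set G)) :
    x * y⁻¹ ∈ centralizer (NU V v i : Set G) := by
  obtain rfl := eq_add_one hij
  obtain ⟨M, _, _, p, s⟩ := exists_M h.fr i
  have hxC := h.fr.N_le_C (i + 1) i hx
  have hyC := h.fr.N_le_C (i + 1) i hy
  refine cent_of_triv h.fr s (h.fr.N_le_C (i + 1) i (mul_mem hx (inv_mem hy))) (fun m => ?_)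
  have e : (⟨x * y⁻¹, h.fr.N_le_C (i + 1) i (mul_mem hx (inv_mem hy))⟩ : CC v i)
      = ⟨x, hxC⟩ * (⟨y, hyC⟩ : CC v i)⁻¹ := Subtype.ext rfl
  rw [e, mul_smul, same' h.fr (h.comm i (i + 1) hij) (h.ne i (i + 1) hij) s (x := ⟨x, hxC⟩) (y := ⟨y, hyC⟩) hx hy
    hx' hy', smul_inv_smul]

theorem z_eq {i j : Fin 2} (hij : i ≠ j) : v j * v i = v 0 * v 1 := by
  have h1 : v 0 * v 1 = v 1 * v 0 := (h.fr.comm_v 1 (h.fr.v_mem_T 0))
  rcases Fin.exists_fin_two.1 ⟨i, rfl⟩ with hi | hi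
  · have hj : j = 1 := by rw [hi] at hij; revert hij; revert j; decide
    rw [hi, hj, h1]
  · have hj : j = 0 := by rw [hi] at hij; revert hij; revert j; decide
    rw [hi, hj]

theorem zc_cases {i j : Fin 2} (hij : i ≠ j) {x : G} (hx : x ∈ zc T) : x = 1 ∨ x = v i ∨ x = v j ∨ x = v j * v i := by
  rw [h.z_eq hij]
  rcases (h.fr.zT x).1 hx with hx | hx | hx | hx
  · exact Or.inl hx
  · rcases eq_or_ne i 0 with hi | hi
    · exact Or.inr (Or.inl (by rw [hx, hi]))
    · have hj : j = 0 := by revert hij hi; revert i j; decide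
      exact Or.inr (Or.inr (Or.inl (by rw [hx, hj])))
  · rcases eq_or_ne i 1 with hi | hi
    · exact Or.inr (Or.inl (by rw [hx, hi]))
    · have hj : j = 1 := by revert hij hi; revert i j; decide
      exact Or.inr (Or.inr (Or.inl (by rw [hx, hj])))
  · exact Or.inr (Or.inr (Or.inr hx))

theorem mv {i j : Fin 2} (hij : i ≠ j) {x e : G} (hx : x ∈ NU V v j) (he : e ∈ NU V v i)
    (hx' : x ∉ centralizer (NU V v i : Set G)) (he' : e ∉ centralizer (NU V v j : Set G)) : x * e ≠ e * x := by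
  intro h1
  have he0 := he'
  rw [mem_centralizer_iff] at he0
  push Not at he0
  obtain ⟨y, hy, h2⟩ := he0
  have hy' : y ∉ centralizer (NU V v i : Set G) := fun h3 => h2 ((mem_centralizer_iff.1 h3) e he).symm
  have h3 := h.same hij hx hy hx' hy'
  have h4 := (mem_centralizer_iff.1 h3) e he
  apply h2
  have h5 : y = (x * y⁻¹)⁻¹ * x := by group
  have h6 : Commute (x * y⁻¹) e := h4.symm
  have h7 : Commute x e := h1
  rw [h5]
  exact (h6.inv_left.mul_left h7)

theorem comm_eq {i j : Fin 2} (hij : i ≠ j) {x e : G} (hx : x ∈ NU V v j) (he : e ∈ NU V v i)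
    (hx' : x ∉ centralizer (NU V v i : Set G)) (he' : e ∉ centralizer (NU V v j : Set G)) :
    x * e * x⁻¹ = e * (v j * v i) := by
  -- a lemma for one side
  have key : ∀ i j : Fin 2, i ≠ j → ∀ x ∈ NU V v j, ∀ e ∈ NU V v i, x ∉ centralizer (NU V v i : Set G) →
      e ∉ centralizer (NU V v j : Set G) → x * e * x⁻¹ * e⁻¹ ∉ zpowers (v i) := by
    intro i j hij x hx e he hx' he' hz
    obtain rfl := eq_add_one hij
    obtain ⟨M, _, _, p, s⟩ := exists_M h.fr i
    refine hx' (cent_of_triv h.fr s (h.fr.N_le_C (i + 1) i hx) (fun m => ?_))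
    -- all of `N_i`
    have hall : ∀ n ∈ NU V v i, x * n * x⁻¹ * n⁻¹ ∈ zpowers (v i) := by
      intro n hn
      by_cases hn' : n ∈ centralizer (NU V v (i + 1) : Set G)
      · have h1 := (mem_centralizer_iff.1 hn') x hx
        rw [h1, mul_inv_cancel_right, mul_inv_cancel]
        exact one_mem _
      · have h1 := h.same hij.symm hn he hn' he'
        have h2 := (mem_centralizer_iff.1 h1) x hx
        have h3 : x * n * x⁻¹ * n⁻¹ = (n * e⁻¹) * (x * e * x⁻¹ * e⁻¹) * (n * e⁻¹)⁻¹ := by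
          calc x * n * x⁻¹ * n⁻¹ = x * (n * e⁻¹) * e * x⁻¹ * n⁻¹ := by group
            _ = (n * e⁻¹) * x * e * x⁻¹ * n⁻¹ := by rw [h2]
            _ = _ := by group
        have h4 : n * e⁻¹ ∈ CC v i := mul_mem (h.fr.N_le_C i i hn) (inv_mem (h.fr.N_le_C i i he))
        rw [h3, cz_comm i h4 hz]
        exact hz
    obtain ⟨e', he', rfl⟩ := s.surj m
    rw [act_p h.fr s _ he', s.eq_iff (conj_E h.fr s (h.fr.N_le_C (i + 1) i hx) he') he']
    obtain ⟨n, hn, y, hy, rfl⟩ := OneEnd.In.exists_mul h.fr he'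
    have h1 := hall n hn
    have h2 : x * y * x⁻¹ = y := cz_comm i (h.fr.N_le_C (i + 1) i hx) hy
    have e1 : x * (n * y) * x⁻¹ * (n * y)⁻¹ = x * n * x⁻¹ * n⁻¹ * (n * (x * y * x⁻¹ * y⁻¹) * n⁻¹) := by group
    rw [e1, h2, mul_inv_cancel, mul_one, mul_inv_cancel, mul_one]
    exact h1
  have h1 := h.comm i j hij x hx e he
  have h2 := key i j hij x hx e he hx' he'
  have h3 := key j i hij.symm e he x hx he' hx'
  have h4 : x * e * x⁻¹ * e⁻¹ = v j * v i := by
    rcases h.zc_cases hij h1 with h5 | h5 | h5 | h5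
    · exact absurd (mul_inv_eq_iff_eq_mul.1 (mul_inv_eq_one.1 h5)) (h.mv hij hx he hx' he')
    · exact absurd (h5 ▸ mem_zpowers (v i)) h2
    · exfalso
      apply h3
      have h6 : e * x * e⁻¹ * x⁻¹ = (x * e * x⁻¹ * e⁻¹)⁻¹ := by group
      rw [h6, h5]
      exact inv_mem (mem_zpowers _)
    · exact h5
  have h5 : x * e * x⁻¹ = v j * v i * e := mul_inv_eq_iff_eq_mul.1 h4
  have h6 : e * (v j * v i) = v j * v i * e := by
    have k1 : e * v j = v j * e := mem_centralizer_singleton_iff.1 (h.fr.N_le_C i j he)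
    have k2 : e * v i = v i * e := mem_centralizer_singleton_iff.1 (h.fr.N_le_C i i he)
    rw [← mul_assoc, k1, mul_assoc, k2, mul_assoc]
  rw [h5, h6]

/-- LEMMA FIX from section 0 of #19487 -/
theorem fixE (i : Fin 2) : FixE T v i := by
  have hij : i ≠ i + 1 := ne_add_one i
  obtain ⟨x, hx, hxN⟩ := SetLike.not_le_iff_exists.1 (h.ne i (i + 1) hij)
  have hxC := h.fr.N_le_C (i + 1) i hx
  have hxr : ∀ n ∈ NU V v i, n * x * n⁻¹ * x⁻¹ ∈ zpowers (v (i + 1) * v i) := by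
    intro n hn
    by_cases hn' : n ∈ centralizer (NU V v (i + 1) : Set G)
    · have h1 := (mem_centralizer_iff.1 hn') x hx
      rw [← h1, mul_inv_cancel_right, mul_inv_cancel]
      exact one_mem _
    · have h1 := h.comm_eq hij hx hn hxN hn'
      have e : n * x * n⁻¹ * x⁻¹ = n * (x * n * x⁻¹)⁻¹ := by group
      rw [e, h1]
      have h2 : n * (n * (v (i + 1) * v i))⁻¹ = n * (v (i + 1) * v i)⁻¹ * n⁻¹ := by group
      rw [h2]
      have h3 : n * (v (i + 1) * v i)⁻¹ * n⁻¹ = (v (i + 1) * v i)⁻¹ := by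
        have k1 : n * v (i + 1) = v (i + 1) * n := mem_centralizer_singleton_iff.1 (h.fr.N_le_C i (i + 1) hn)
        have k2 : n * v i = v i * n := mem_centralizer_singleton_iff.1 (h.fr.N_le_C i i hn)
        have k3 : Commute n (v (i + 1) * v i) := Commute.mul_right k1 k2
        rw [k3.inv_right.eq, mul_inv_cancel_right]
      rw [h3]
      exact inv_mem (mem_zpowers _)
  rcases h.fr.sec0 i (Or.inr rfl) hxC hxN hxr with ⟨h1, -⟩ | ⟨h1, -⟩
  · exfalso
    apply h.ne i (i + 1) hij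
    rw [h1]
    refine comm_symm ((h.fr.H_le_W i).trans ?_)
    exact le_sup_left.trans ((h.fr.WN_comm (i + 1)).trans (centralizer_le (le_sup_right :
      NU V v (i + 1) ≤ WU V v (i + 1) ⊔ NU V v (i + 1))))
  · intro n hn hT
    refine h1.fixT n hn fun t ht => ?_
    have h2 := hT t ht
    have h3 : n⁻¹ * t * n * t⁻¹ = n⁻¹ * (t * n * t⁻¹ * n⁻¹) * n⁻¹⁻¹ := by group
    rw [h3, cz_comm i (inv_mem ((h.fr.E_le_Q i).trans ((h.fr.Q_le_T i).trans (h.fr.T_le_C i)) hn)) h2]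
    exact h2

theorem false : False := by
  refine OneEnd.false_of h.fr (h.comm 0 1 (by decide)) (fun h1 => h.ne 1 0 (by decide) h1) h.fixE

end In0

/-- **(6) (c)**: `[N_0, N_1] ≤ Ω₁Z(T)` implies `[N_0, N_1] = 1`. -/
theorem comm_of (D : Fr T V P v) (h01 : ∀ x ∈ NU V v 1, ∀ e ∈ NU V v 0, x * e * x⁻¹ * e⁻¹ ∈ zc T) :
    NU V v 0 ≤ centralizer (NU V v 1 : Set G) := by
  by_contra hne
  have h10 : ∀ x ∈ NU V v 0, ∀ e ∈ NU V v 1, x * e * x⁻¹ * e⁻¹ ∈ zc T := by
    intro x hx e he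
    have e1 : x * e * x⁻¹ * e⁻¹ = (e * x * e⁻¹ * x⁻¹)⁻¹ := by group
    rw [e1]
    exact inv_mem (h01 e he x hx)
  refine In0.false (T := T) (V := V) (P := P) (v := v) ⟨D, ?_, ?_⟩
  · intro i j hij
    rcases Fin.exists_fin_two.1 ⟨i, rfl⟩ with hi | hi
    · have hj : j = 1 := by rw [hi] at hij; revert hij; revert j; decide
      rw [hi, hj]; exact h01
    · have hj : j = 0 := by rw [hi] at hij; revert hij; revert j; decide
      rw [hi, hj]; exact h10
  · intro i j hij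
    rcases Fin.exists_fin_two.1 ⟨i, rfl⟩ with hi | hi
    · have hj : j = 1 := by rw [hi] at hij; revert hij; revert j; decide
      rw [hi, hj]
      exact fun h1 => hne (comm_symm h1)
    · have hj : j = 0 := by rw [hi] at hij; revert hij; revert j; decide
      rw [hi, hj]; exact hne

/-- **(6) (c)**: THEOREM I (`E_0 ∩ E_1 ≤ Ω₁Z(T)`) implies `[N_0, N_1] = 1`. -/
theorem d_one (D : Fr T V P v) (h01 : EU T v 0 ⊓ EU T v 1 ≤ zc T) : NU V v 0 ≤ centralizer (NU V v 1 : Set G) := by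
  refine comm_of D fun x hx e he => h01 (mem_inf.2 ⟨?_, ?_⟩)
  · have hxC := D.N_le_C 1 0 hx
    have h1 := (mem_normalizer_iff.1 (D.C_le_N_E 0 hxC) e).1 (D.N_le_E 0 he)
    exact mul_mem h1 (inv_mem (D.N_le_E 0 he))
  · have heC := D.N_le_C 0 1 he
    have h1 := (mem_normalizer_iff.1 (D.C_le_N_E 1 heC) x⁻¹).1 (inv_mem (D.N_le_E 1 hx))
    have e1 : x * e * x⁻¹ * e⁻¹ = x * (e * x⁻¹ * e⁻¹) := by group
    rw [e1]
    exact mul_mem (D.N_le_E 1 hx) h1

end Cfsg.Agent.Omega.TC.R.DOneR
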