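import Cfsg.Agent.Omega.TC.R.Base
import Cfsg.Agent.Omega.BTwo.Avg

/-!
# CARD #18791, THEOREM R (helper691 #21425 (0)): the canonical vector

`Can T V v i n` : `n ∈ N_i ∖ Ω₁Z(T)` is fixed modulo `v i` by `N_{C_i}(V i)`, and `v i ∈ N_i`.

* `exists_can` : (0.1) `R` normal in `C_i`, `[V i, R] ≤ N_i`, `R` moves `N_i`, `V i ≰ N_i` ⇒ a canonical vector;
* `Can.mv` : (0.2) `[n, C_T(V i)] = ⟨v i⟩`;
* `Can.indep` : (0.3) for `p, q ∈ P i` with `v_i^p ≠ v_i^q` some `t ∈ C_T(V i)` moves `n^p` and centralises `n^q`;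
* `Can.mem_Q`, `Can.mem_Qj`, `Can.fl_mem`, `Can.fl_comm` : (0.4) the vectors `n^g`, `v i ∈ V i ^ g`, lie in `Q_i`,
  centralise `W_i` and commute.
-/

set_option autoImplicit false
set_option linter.unusedSectionVars false

namespace Cfsg.Agent.Omega.TC.R

open Subgroup Cfsg Cfsg.Agent.ZN Cfsg.Agent.Omega.MinPar
open Cfsg.Agent.Omega.OM.KTwo (CC QQ WU NU EU FF ne_add_one eq_add_one add_one_add_one le_normalizer_V le_V)
open Cfsg.Agent.Omega.NoFF.Basic (conj_conj mem_conj conj_le_iff conj_le_centralizer comm_symm comm_mono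
  Z_le_V V_le conj_V_mul)
open Cfsg.Agent.Omega.TC.ThmI (rel_le_two two_le_rel three_le_rel)
open Cfsg.Agent.ZN.ChoiceSit (syl_not_dvd)
open Cfsg.Agent.Omega.NO3S.EThree.ExactA (eab_iff eab_mono)
open scoped Pointwise

universe u

variable {G : Type u} [Group G] [Finite G] {T : Subgroup G} {V P : Fin 2 → Subgroup G} {v : Fin 2 → G}

/-- **the canonical vector** -/
structure Can (T : Subgroup G) (V : Fin 2 → Subgroup G) (v : Fin 2 → G) (i : Fin 2) (n : G) : Prop where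
  nN : n ∈ NU V v i
  rad : v i ∈ NU V v i
  nz : n ∉ zc T
  fix : ∀ g ∈ CC v i, g ∈ normalizer (V i : Set G) → g * n * g⁻¹ * n⁻¹ ∈ zpowers (v i)

theorem mem_zp_of_sq {r x : G} (hr : r * r = 1) (hx : x ∈ zpowers r) : x = 1 ∨ x = r := by
  obtain ⟨k, rfl⟩ := mem_zpowers_iff.1 hx
  rcases Int.even_or_odd' k with ⟨l, rfl | rfl⟩
  · left; rw [zpow_mul, zpow_two, hr, one_zpow]
  · right; rw [zpow_add, zpow_mul, zpow_two, hr, one_zpow, one_mul, zpow_one]

section fr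

variable (D : Fr T V P v)

include D

theorem cv {i : Fin 2} {c z : G} (hc : c ∈ CC v i) (hz : z ∈ zpowers (v i)) : c * z * c⁻¹ = z := by
  rcases D.mem_zpv hz with h | h
  · rw [h]; group
  · rw [h]; exact D.conj_v i hc

/-- `V i ≤ C(V i)` etc. -/
theorem cent_V_le (i : Fin 2) : centralizer (V i : Set G) ≤ CC v i := by
  intro g hg
  rw [mem_centralizer_singleton_iff]
  exact (mem_centralizer_iff.1 hg _ (D.mem i)).symm

/-- fixed vectors of `zc T` modulo `v i` -/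
theorem zc_fix {i j : Fin 2} (hij : i ≠ j) {m : G} (hm : m ∈ zc T)
    (hf : ∀ g ∈ P j, g ∈ centralizer (V i : Set G) → m⁻¹ * g * m * g⁻¹ ∈ zpowers (v i)) : m ∈ zpowers (v i) := by
  by_contra hmv
  have h2 : ∃ d ∈ zpowers (v i), m = v j * d := by
    have hc : v 0 * v 1 = v 1 * v 0 := D.comm_v 1 (D.v_mem_T 0)
    have h0 := fin2_cases hij
    rcases (D.zT m).1 hm with h | h | h | h
    · exact absurd (h ▸ one_mem _) hmv
    · rcases h0 with ⟨rfl, rfl⟩ | ⟨rfl, rfl⟩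
      · rw [h] at hmv; exact absurd (mem_zpowers _) hmv
      · exact ⟨1, one_mem _, by rw [h, mul_one]⟩
    · rcases h0 with ⟨rfl, rfl⟩ | ⟨rfl, rfl⟩
      · exact ⟨1, one_mem _, by rw [h, mul_one]⟩
      · rw [h] at hmv; exact absurd (mem_zpowers _) hmv
    · rcases h0 with ⟨rfl, rfl⟩ | ⟨rfl, rfl⟩
      · exact ⟨v 0, mem_zpowers _, by rw [h, hc]⟩
      · exact ⟨v 1, mem_zpowers _, h⟩
  obtain ⟨d, hd, hyd⟩ := h2
  obtain ⟨w, hw, hw1, hwv⟩ := D.exists_ne_v j
  obtain ⟨l, hlP, hlC, hlw⟩ := D.tr hij.symm hw hw1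
  have h3 := hf l hlP hlC
  have hlC' : l ∈ CC v i := cent_V_le D i hlC
  have h4 : m⁻¹ * l * m * l⁻¹ = d⁻¹ * ((v j)⁻¹ * w) * d := by
    calc m⁻¹ * l * m * l⁻¹ = (v j * d)⁻¹ * (l * v j * l⁻¹) * (l * d * l⁻¹) := by rw [hyd]; group
      _ = d⁻¹ * ((v j)⁻¹ * w) * d := by rw [hlw, cv D hlC' hd]; group
  rw [h4] at h3
  have h5 : (v j)⁻¹ * w ∈ zpowers (v i) := by
    have := mul_mem (mul_mem hd h3) (inv_mem hd)
    have e5 : d * (d⁻¹ * ((v j)⁻¹ * w) * d) * d⁻¹ = (v j)⁻¹ * w := by group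
    rwa [e5] at this
  have h6 : (v j)⁻¹ * w ∈ V j := (V j).mul_mem ((V j).inv_mem (D.mem _)) hw
  have h7 : (v j)⁻¹ * w ≠ 1 := fun h => hwv (inv_mul_eq_one.1 h).symm
  rcases D.mem_zpv h5 with h8 | h8
  · exact h7 h8
  · exact D.v_notin hij (h8 ▸ h6)

/-- **(0.1)** -/
theorem exists_can {i : Fin 2} {R : Subgroup G} (hR : R ≤ CC v i)
    (hRn : CC v i ≤ normalizer (R : Set G)) (hRX : ∀ r ∈ R, ∀ x ∈ V i, r * x * r⁻¹ * x⁻¹ ∈ NU V v i)
    (hm : ¬ R ≤ centralizer (NU V v i : Set G)) : ∃ n, Can T V v i n := by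
  obtain ⟨e, he, he1, hev⟩ := D.exists_ne_v i
  have hij := ne_add_one i
  have hCE := D.C_le_N_E i
  have hCZ := D.C_le_N_Z i
  have hEC : EU T v i ≤ CC v i := ((D.E_le_Q i).trans (D.Q_le_T i)).trans (D.T_le_C i)
  have hvE : zpowers (v i) ≤ EU T v i := zpowers_le.2 (D.v_mem_E i i)
  have heC : e ∈ CC v i := D.T_le_C i (D.V_le_T i he)
  have hconj : ∀ c ∈ CC v i, ∀ x ∈ EU T v i, c * x * c⁻¹ ∈ EU T v i := fun c hc x hx =>
    (mem_normalizer_iff.1 (hCE hc) x).1 hx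
  let H : Subgroup G :=
    { carrier := {h | h ∈ CC v i ∧ e⁻¹ * h * e * h⁻¹ ∈ EU T v i}
      one_mem' := ⟨one_mem _, by simp⟩
      mul_mem' := by
        rintro a b ⟨ha, ha'⟩ ⟨hb, hb'⟩
        refine ⟨mul_mem ha hb, ?_⟩
        have e1 : e⁻¹ * (a * b) * e * (a * b)⁻¹ = (e⁻¹ * a * e * a⁻¹) * (a * (e⁻¹ * b * e * b⁻¹) * a⁻¹) := by group
        rw [e1]
        exact mul_mem ha' (hconj a ha _ hb')
      inv_mem' := by
        rintro a ⟨ha, ha'⟩
        refine ⟨inv_mem ha, ?_⟩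
        have h1 := hconj a⁻¹ (inv_mem ha) _ (inv_mem ha')
        have e1 : a⁻¹ * (e⁻¹ * a * e * a⁻¹)⁻¹ * a⁻¹⁻¹ = e⁻¹ * a⁻¹ * e * a⁻¹⁻¹ := by group
        rwa [e1] at h1 }
  have hHC : H ≤ CC v i := fun h hh => hh.1
  have hNH : ∀ g ∈ CC v i, g ∈ normalizer (V i : Set G) → g ∈ H := fun g hg hgV =>
    ⟨hg, hvE (D.comm_VN hg hgV he)⟩
  have hTH : T ≤ H := fun t ht => hNH t (D.T_le_C i ht) (D.T_le_N i ht)
  have hodd : Odd (T.relIndex H) := by
    rw [← Nat.not_even_iff_odd, even_iff_two_dvd]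
    intro h2
    refine syl_not_dvd (D.syl i) ?_
    rw [← relIndex_mul_relIndex _ _ _ hTH hHC]
    exact h2.mul_right _
  obtain ⟨y, hy, hyH⟩ := Cfsg.Agent.Omega.BTwo.Avg.avg (Y := EU T v i) (D := zpowers (v i)) (c := e) hTH hodd hvE
    (fun x hx z hz => hconj x (hHC hx) z hz) (fun x hx z hz => (mem_normalizer_iff.1 (hCZ (hHC hx)) z).1 hz)
    (fun x hx z hz => (mem_normalizer_iff.1 (hCZ (hEC hx)) z).1 hz)
    (fun y hy => by rw [← pow_two, D.E_sq i y hy]; exact one_mem _) (fun x hx => hx.2)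
    (fun t ht => D.comm_VN (D.T_le_C i ht) (D.T_le_N i ht) he)
  obtain ⟨m, hmN, w, hw, hymw⟩ := D.mem_E hy
  have hmC : m ∈ CC v i := D.N_le_C i i hmN
  have hyC : y ∈ CC v i := hEC hy
  -- `m` is fixed modulo `v i`
  have hmfix : ∀ g ∈ CC v i, g ∈ normalizer (V i : Set G) → m⁻¹ * g * m * g⁻¹ ∈ zpowers (v i) := by
    intro g hg hgV
    have h1 := hyH g (hNH g hg hgV)
    have h2 := D.comm_VN hg hgV he
    have h3 : (e * y)⁻¹ * g * (e * y) * g⁻¹ = (y⁻¹ * (e⁻¹ * g * e * g⁻¹) * y⁻¹⁻¹) * (y⁻¹ * g * y * g⁻¹) := by group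
    rw [h3, cv D (inv_mem hyC) h2] at h1
    have h4 := mul_mem (inv_mem h2) h1
    rw [inv_mul_cancel_left] at h4
    have h5 : y⁻¹ * g * y * g⁻¹ = (w⁻¹ * (m⁻¹ * g * m * g⁻¹) * w) * (w⁻¹ * (g * w * g⁻¹)) := by rw [hymw]; group
    rw [cv D hg hw, inv_mul_cancel, mul_one] at h5
    rw [h5] at h4
    have h6 := mul_mem (mul_mem hw h4) (inv_mem hw)
    have e6 : w * (w⁻¹ * (m⁻¹ * g * m * g⁻¹) * w) * w⁻¹ = m⁻¹ * g * m * g⁻¹ := by group
    rwa [e6] at h6
  by_cases hmz : m ∈ zc T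
  · exfalso
    have hmv : m ∈ zpowers (v i) := by
      refine zc_fix D hij hmz fun g hg hgV => ?_
      exact hmfix g (cent_V_le D i hgV) (centralizer_le_normalizer _ hgV)
    have hyv : y ∈ zpowers (v i) := by rw [hymw]; exact mul_mem hmv hw
    -- `R ≤ N(V i)`
    have hle : ∀ r ∈ R, ∀ x ∈ V i, r * x * r⁻¹ ∈ V i := by
      have hRe : ∀ r ∈ R, r * e * r⁻¹ ∈ V i := by
        intro r hr
        have hrC := hR hr
        have h0 : e⁻¹ * r * e * r⁻¹ ∈ EU T v i := by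
          have h1 := D.N_le_E i (hRX r hr e he)
          have h2 := hconj e⁻¹ (inv_mem heC) _ h1
          have e2 : e⁻¹ * (r * e * r⁻¹ * e⁻¹) * e⁻¹⁻¹ = e⁻¹ * r * e * r⁻¹ := by group
          rwa [e2] at h2
        have h1 := hyH r ⟨hrC, h0⟩
        have h3 : (e * y)⁻¹ * r * (e * y) * r⁻¹ = y⁻¹ * (e⁻¹ * (r * e * r⁻¹)) * (r * y * r⁻¹) := by group
        rw [h3, cv D hrC hyv] at h1
        have h4 := mul_mem (mul_mem hyv h1) (inv_mem hyv)
        have e4 : y * (y⁻¹ * (e⁻¹ * (r * e * r⁻¹)) * y) * y⁻¹ = e⁻¹ * (r * e * r⁻¹) := by group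
        rw [e4] at h4
        have h5 := mul_mem he ((zpowers_le.2 (D.mem i)) h4)
        rwa [mul_inv_cancel_left] at h5
      intro r hr x hx
      by_cases hx1 : x = 1
      · rw [hx1, mul_one, mul_inv_cancel]; exact one_mem _
      have hrv := D.conj_v i (hR hr)
      rcases D.eq_of_V he he1 (D.mem i) (D.ne i) hev hx hx1 with h | h | h
      · rw [h]; exact hRe r hr
      · rw [h, hrv]; exact D.mem i
      · rw [h]
        have e1 : r * (e * v i) * r⁻¹ = (r * e * r⁻¹) * (r * v i * r⁻¹) := by group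
        rw [e1, hrv]
        exact mul_mem (hRe r hr) (D.mem i)
    have hRN : R ≤ normalizer (V i : Set G) := by
      intro r hr
      rw [mem_normalizer_iff]
      intro x
      refine ⟨fun hx => hle r hr x hx, fun hx => ?_⟩
      have h2 := hle r⁻¹ (inv_mem hr) _ hx
      have e2 : r⁻¹ * (r * x * r⁻¹) * r⁻¹⁻¹ = x := by group
      rwa [e2] at h2
    refine D.comp i fun c hc => ?_
    obtain ⟨x, hx, d, hd, e2⟩ := D.lem0 hR hRn hm c⁻¹ (inv_mem hc)
    refine ⟨d⁻¹, inv_mem hd, x⁻¹, inv_mem (hRN hx), ?_⟩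
    rw [← mul_inv_rev, ← e2, inv_inv]
  · refine ⟨m, hmN, ?_, hmz, fun g hg hgV => ?_⟩
    · by_contra hrad
      apply hmz
      rw [ZN.mem_zc]
      refine ⟨D.N_le_T i hmN, fun t ht => ?_, D.N_sq i m hmN⟩
      have h1 := hmfix t (D.T_le_C i ht) (D.T_le_N i ht)
      have h2 : m⁻¹ * t * m * t⁻¹ ∈ NU V v i := by
        have e2 : m⁻¹ * t * m * t⁻¹ = m⁻¹ * (t * m * t⁻¹) := by group
        rw [e2]
        exact mul_mem (inv_mem hmN) ((mem_normalizer_iff.1 (D.C_le_N_N i (D.T_le_C i ht)) m).1 hmN)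
      rcases D.mem_zpv h1 with h3 | h3
      · calc t * m = m * (m⁻¹ * t * m * t⁻¹) * t := by group
          _ = m * t := by rw [h3, mul_one]
      · exact absurd (h3 ▸ h2) hrad
    · have h1 := hmfix g hg hgV
      have h2 := cv D hmC h1
      have e2 : m * (m⁻¹ * g * m * g⁻¹) * m⁻¹ = g * m * g⁻¹ * m⁻¹ := by group
      rw [← e2, h2]
      exact h1

/-- 2-transitivity of `P i` on `V i#` -/
theorem tr_two {i : Fin 2} {x y x' y' : G} (hx : x ∈ V i) (hy : y ∈ V i) (hx' : x' ∈ V i) (hy' : y' ∈ V i)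
    (hx1 : x ≠ 1) (hy1 : y ≠ 1) (hx1' : x' ≠ 1) (hy1' : y' ≠ 1) (hxy : x ≠ y) (hxy' : x' ≠ y') :
    ∃ r ∈ P i, r * x * r⁻¹ = x' ∧ r * y * r⁻¹ = y' := by
  obtain ⟨l, hl, -, hlx⟩ := D.tr (ne_add_one i) hx hx1
  obtain ⟨l', hl', -, hlx'⟩ := D.tr (ne_add_one i) hx' hx1'
  have hu : l⁻¹ * y * l ∈ V i := (mem_normalizer_iff''.1 (D.PN i i hl) y).1 hy
  have hu' : l'⁻¹ * y' * l' ∈ V i := (mem_normalizer_iff''.1 (D.PN i i hl') y').1 hy'
  have hu1 : l⁻¹ * y * l ≠ 1 := by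
    intro h
    apply hy1
    have := congrArg (fun t => l * t * l⁻¹) h
    simpa [mul_assoc] using this
  have hu1' : l'⁻¹ * y' * l' ≠ 1 := by
    intro h
    apply hy1'
    have := congrArg (fun t => l' * t * l'⁻¹) h
    simpa [mul_assoc] using this
  have huv : l⁻¹ * y * l ≠ v i := by
    intro h
    apply hxy
    rw [← hlx, ← h]; group
  have huv' : l'⁻¹ * y' * l' ≠ v i := by
    intro h
    apply hxy'
    rw [← hlx', ← h]; group
  obtain ⟨t, ht, htu⟩ : ∃ t ∈ T, t * (l⁻¹ * y * l) * t⁻¹ = l'⁻¹ * y' * l' := by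
    rcases D.eq_of_V hu hu1 (D.mem i) (D.ne i) huv hu' hu1' with h | h | h
    · exact ⟨1, one_mem _, by rw [h]; group⟩
    · exact absurd h huv'
    · obtain ⟨t, ht, htu⟩ := D.exists_swap hu hu1 huv
      exact ⟨t, ht, by rw [htu, h]⟩
  refine ⟨l' * t * l⁻¹, mul_mem (mul_mem hl' (D.T_le_P i ht)) (inv_mem hl), ?_, ?_⟩
  · calc l' * t * l⁻¹ * x * (l' * t * l⁻¹)⁻¹ = l' * (t * (l⁻¹ * (l * v i * l⁻¹) * l) * t⁻¹) * l'⁻¹ := by
          rw [hlx]; group
      _ = l' * (t * v i * t⁻¹) * l'⁻¹ := by group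
      _ = x' := by rw [D.cen i ht, hlx']
  · calc l' * t * l⁻¹ * y * (l' * t * l⁻¹)⁻¹ = l' * (t * (l⁻¹ * y * l) * t⁻¹) * l'⁻¹ := by group
      _ = y' := by rw [htu]; group

/-- elements of `N_i ∩ V i` -/
theorem mem_N_V {i : Fin 2} (hV : ¬ V i ≤ NU V v i) (hr : v i ∈ NU V v i) {a : G} (ha : a ∈ V i)
    (haN : a ∈ NU V v i) : a = 1 ∨ a = v i := by
  by_contra hcon
  push Not at hcon
  apply hV
  intro x hx
  by_cases hx1 : x = 1
  · rw [hx1]; exact one_mem _
  rcases D.eq_of_V ha hcon.1 (D.mem i) (D.ne i) hcon.2 hx hx1 with h | h | h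
  · rw [h]; exact haN
  · rw [h]; exact hr
  · rw [h]; exact mul_mem haN hr

/-- commutators with elements of `C(V i)` -/
theorem Can.chi {i : Fin 2} {n : G} (c : Can T V v i n) (p : G) {x : G}
    (hx : x ∈ centralizer ((MulAut.conj p • V i : Subgroup G) : Set G)) :
    x * (p * n * p⁻¹) * x⁻¹ = p * n * p⁻¹ ∨ x * (p * n * p⁻¹) * x⁻¹ = p * n * p⁻¹ * (p * v i * p⁻¹) := by
  have h1 : p⁻¹ * x * p ∈ centralizer (V i : Set G) := by
    rw [mem_centralizer_iff]
    intro y hy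
    have h2 : p * y * p⁻¹ ∈ MulAut.conj p • V i := ⟨y, hy, rfl⟩
    have h3 := mem_centralizer_iff.1 hx _ h2
    calc y * (p⁻¹ * x * p) = p⁻¹ * (p * y * p⁻¹ * x) * p := by group
      _ = p⁻¹ * x * p * y := by rw [h3]; group
  have h2 := c.fix _ (cent_V_le D i h1) (centralizer_le_normalizer _ h1)
  rcases D.mem_zpv h2 with h3 | h3
  · left
    calc x * (p * n * p⁻¹) * x⁻¹ = p * (p⁻¹ * x * p * n * (p⁻¹ * x * p)⁻¹ * n⁻¹) * n * p⁻¹ := by group
      _ = p * n * p⁻¹ := by rw [h3]; group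
  · right
    have h4 : v i * n = n * v i := (mem_centralizer_singleton_iff.1 (D.N_le_C i i c.nN)).symm
    calc x * (p * n * p⁻¹) * x⁻¹ = p * (p⁻¹ * x * p * n * (p⁻¹ * x * p)⁻¹ * n⁻¹) * n * p⁻¹ := by group
      _ = p * (v i * n) * p⁻¹ := by rw [h3]; group
      _ = p * n * p⁻¹ * (p * v i * p⁻¹) := by rw [h4]; group

/-- the same point on the same line -/
theorem Can.same {i : Fin 2} {n : G} (c : Can T V v i n) {p q : G} (h1 : q⁻¹ * p ∈ CC v i)
    (h2 : q⁻¹ * p ∈ normalizer (V i : Set G)) :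
    p * n * p⁻¹ = q * n * q⁻¹ ∨ p * n * p⁻¹ = q * n * q⁻¹ * (q * v i * q⁻¹) := by
  have h4 : v i * n = n * v i := (mem_centralizer_singleton_iff.1 (D.N_le_C i i c.nN)).symm
  rcases D.mem_zpv (c.fix _ h1 h2) with h3 | h3
  · left
    calc p * n * p⁻¹ = q * (q⁻¹ * p * n * (q⁻¹ * p)⁻¹ * n⁻¹) * n * q⁻¹ := by group
      _ = q * n * q⁻¹ := by rw [h3]; group
  · right
    calc p * n * p⁻¹ = q * (q⁻¹ * p * n * (q⁻¹ * p)⁻¹ * n⁻¹) * n * q⁻¹ := by group
      _ = q * (v i * n) * q⁻¹ := by rw [h3]; group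
      _ = q * n * q⁻¹ * (q * v i * q⁻¹) := by rw [h4]; group

theorem Can.sq {i : Fin 2} {n : G} (c : Can T V v i n) : n * n = 1 := by
  rw [← pow_two]; exact D.N_sq i n c.nN

/-- `n` commutes with `N_{i+1}` -/
theorem Can.comm_Nj (hML : ML.Final.MLK.{u, u}) (hK : ∀ i, IsKGroup (CC v i)) {i : Fin 2} {n : G}
    (c : Can T V v i n) : n ∈ centralizer (NU V v (i + 1) : Set G) := by
  have hV : NU V v (i + 1) ≤ centralizer (V i : Set G) := by
    have h1 := D.V_le_N (i + 1)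
    rw [add_one_add_one] at h1
    exact (D.N_comm (i + 1)).trans (centralizer_le h1)
  have hvn : v (i + 1) ∉ zpowers (v i) := by
    intro h
    rcases D.mem_zpv h with h1 | h1
    · exact D.ne _ h1
    · exact D.v_notin (ne_add_one i) (h1 ▸ D.mem (i + 1))
  refine D.lemQ hML hK (i := i) (Y := zpowers (v i)) (M := zpowers n) (D.C_le_N_Z i) (zpowers_le.2 c.rad)
    hvn (zpowers_le.2 c.nN) (fun m hm a ha => ?_) (mem_zpowers n)
  rcases mem_zp_of_sq (c.sq D) hm with h | h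
  · rw [h]; simp
  · rw [h]
    exact c.fix a (cent_V_le D i (hV ha)) (centralizer_le_normalizer _ (hV ha))

theorem Can.mem_Qj (hML : ML.Final.MLK.{u, u}) (hK : ∀ i, IsKGroup (CC v i)) {i : Fin 2} {n : G}
    (c : Can T V v i n) {p : G} (hp : p ∈ P i) : p * n * p⁻¹ ∈ QQ v (i + 1) := by
  have h1 : n ∈ QQ v (i + 1) := D.f3 (i + 1) ⟨D.N_le_oD i c.nN, c.comm_Nj D hML hK⟩
  exact (mem_normalizer_iff.1 (ZN.le_normalizer_o2 _ (D.PC i (i + 1) (ne_add_one i) hp)) n).1 h1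

/-- **(0.2)** -/
theorem Can.mv {i : Fin 2} (hB : WOff T V i) (hV : ¬ V i ≤ NU V v i) {n : G} (c : Can T V v i n) :
    ∃ s ∈ o2 (P i), s * n * s⁻¹ = n * v i := by
  by_contra hcon
  push Not at hcon
  have hij := ne_add_one i
  have ho : o2 (P i) = T ⊓ centralizer (V i : Set G) := Phi.o2_P D i
  apply c.nz
  have h1 : n ∈ zc (o2 (P i)) := by
    rw [ZN.mem_zc]
    refine ⟨Phi.N_le_o2 D i c.nN, fun t ht => ?_, D.N_sq i n c.nN⟩
    have ht' := ht
    rw [ho] at ht'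
    have h2 := c.chi D 1 (x := t) (by rw [map_one, one_smul]; exact ht'.2)
    simp only [one_mul, inv_one, mul_one] at h2
    rcases h2 with h2 | h2
    · calc t * n = t * n * t⁻¹ * t := by group
        _ = n * t := by rw [h2]
    · exact absurd h2 (hcon t ht)
  obtain ⟨a, ha, h2⟩ := D.mem_zc_o2 hB hij h1
  have hvj : v (i + 1) ∈ NU V v i := D.mem_N i
  have haN : a ∈ NU V v i := by
    rcases h2 with h2 | h2
    · rw [← h2]; exact c.nN
    · have : a = n * (v (i + 1))⁻¹ := by rw [h2]; group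
      rw [this]; exact mul_mem c.nN (inv_mem hvj)
  have haz : a ∈ zc T := by
    rcases mem_N_V D hV c.rad ha haN with h | h
    · rw [h]; exact one_mem _
    · rw [h]; exact D.v_mem_zc i
  rcases h2 with h2 | h2
  · rw [h2]; exact haz
  · rw [h2]; exact mul_mem haz (D.v_mem_zc _)

/-- `C_T(V i)`-elements and `n^p`, `p ∈ N(V i)` -/
theorem Can.chi_o {i : Fin 2} {n : G} (c : Can T V v i n) {p : G} (hp : p ∈ P i) {t : G} (ht : t ∈ o2 (P i)) :
    t * (p * n * p⁻¹) * t⁻¹ = p * n * p⁻¹ ∨ t * (p * n * p⁻¹) * t⁻¹ = p * n * p⁻¹ * (p * v i * p⁻¹) := by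
  apply c.chi D p
  rw [NOThreeL.Pair.conj_eq_of_mem (D.PN i i hp)]
  rw [Phi.o2_P D i] at ht
  exact ht.2

theorem mem_V_conj {i : Fin 2} {p : G} (hp : p ∈ P i) : p * v i * p⁻¹ ∈ V i :=
  (mem_normalizer_iff.1 (D.PN i i hp) _).1 (D.mem i)

theorem o2_comm {i : Fin 2} {t x : G} (ht : t ∈ o2 (P i)) (hx : x ∈ V i) : t * x * t⁻¹ = x := by
  rw [Phi.o2_P D i] at ht
  rw [← mem_centralizer_iff.1 ht.2 x hx, mul_inv_cancel_right]

theorem o2_conj {i : Fin 2} {p t : G} (hp : p ∈ P i) (ht : t ∈ o2 (P i)) : p * t * p⁻¹ ∈ o2 (P i) :=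
  (mem_normalizer_iff.1 (ZN.le_normalizer_o2 _ hp) t).1 ht

theorem o2_conj' {i : Fin 2} {p t : G} (hp : p ∈ P i) (ht : t ∈ o2 (P i)) : p⁻¹ * t * p ∈ o2 (P i) := by
  have := o2_conj D (inv_mem hp) ht
  rwa [inv_inv] at this

/-- fixing `n^p` depends only on the point -/
theorem Can.fix_congr {i : Fin 2} {n : G} (c : Can T V v i n) {p q : G} (hp : p ∈ P i) (hq : q ∈ P i)
    (h : p * v i * p⁻¹ = q * v i * q⁻¹) {t : G} (ht : t ∈ o2 (P i)) (h1 : t * (p * n * p⁻¹) * t⁻¹ = p * n * p⁻¹) :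
    t * (q * n * q⁻¹) * t⁻¹ = q * n * q⁻¹ := by
  have h2 : q⁻¹ * p ∈ CC v i := by
    rw [mem_centralizer_singleton_iff]
    calc q⁻¹ * p * v i = q⁻¹ * (p * v i * p⁻¹) * p := by group
      _ = v i * (q⁻¹ * p) := by rw [h]; group
  have hqv := o2_comm D ht (mem_V_conj D hq)
  rcases c.same D h2 (mul_mem (inv_mem (D.PN i i hq)) (D.PN i i hp)) with h3 | h3
  · rw [← h3]; exact h1
  · rw [h3] at h1
    have e : t * (q * n * q⁻¹ * (q * v i * q⁻¹)) * t⁻¹ = t * (q * n * q⁻¹) * t⁻¹ * (t * (q * v i * q⁻¹) * t⁻¹) := by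
      group
    rw [e, hqv] at h1
    exact mul_right_cancel h1

/-- **(0.3)** -/
theorem Can.indep (hML : ML.Final.MLK.{u, u}) (hK : ∀ i, IsKGroup (CC v i)) {i : Fin 2} (hB : WOff T V i)
    (hV : ¬ V i ≤ NU V v i) {n : G} (c : Can T V v i n) {p q : G}
    (hp : p ∈ P i) (hq : q ∈ P i) (hpq : p * v i * p⁻¹ ≠ q * v i * q⁻¹) :
    ∃ t ∈ o2 (P i), t * (p * n * p⁻¹) * t⁻¹ ≠ p * n * p⁻¹ ∧ t * (q * n * q⁻¹) * t⁻¹ = q * n * q⁻¹ := by
  by_contra hcon
  push Not at hcon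
  have hcon0 : ∀ t ∈ o2 (P i), t * (q * n * q⁻¹) * t⁻¹ = q * n * q⁻¹ → t * (p * n * p⁻¹) * t⁻¹ = p * n * p⁻¹ := by
    intro t ht h1
    by_contra h2
    exact hcon t ht h2 h1
  clear hcon
  have ho : o2 (P i) = T ⊓ centralizer (V i : Set G) := Phi.o2_P D i
  have hpt1 : ∀ g : G, g * v i * g⁻¹ ≠ 1 := fun g h => D.ne i (conj_eq_one_iff.1 h)
  -- for all pairs
  have hall : ∀ p' ∈ P i, ∀ q' ∈ P i, ∀ t ∈ o2 (P i), t * (q' * n * q'⁻¹) * t⁻¹ = q' * n * q'⁻¹ →
      t * (p' * n * p'⁻¹) * t⁻¹ = p' * n * p'⁻¹ := by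
    intro p' hp' q' hq' t ht h1
    by_cases hpq' : p' * v i * p'⁻¹ = q' * v i * q'⁻¹
    · exact c.fix_congr D hq' hp' hpq'.symm ht h1
    obtain ⟨r, hr, hr1, hr2⟩ := tr_two D (mem_V_conj D hp) (mem_V_conj D hq) (mem_V_conj D hp') (mem_V_conj D hq')
      (hpt1 _) (hpt1 _) (hpt1 _) (hpt1 _) hpq hpq'
    have ht' := o2_conj' D hr ht
    have e1 : r⁻¹ * q' * v i * (r⁻¹ * q')⁻¹ = q * v i * q⁻¹ := by
      calc r⁻¹ * q' * v i * (r⁻¹ * q')⁻¹ = r⁻¹ * (q' * v i * q'⁻¹) * r := by group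
        _ = q * v i * q⁻¹ := by rw [← hr2]; group
    have h2 : r⁻¹ * t * r * (r⁻¹ * q' * n * (r⁻¹ * q')⁻¹) * (r⁻¹ * t * r)⁻¹ = r⁻¹ * q' * n * (r⁻¹ * q')⁻¹ := by
      calc r⁻¹ * t * r * (r⁻¹ * q' * n * (r⁻¹ * q')⁻¹) * (r⁻¹ * t * r)⁻¹
          = r⁻¹ * (t * (q' * n * q'⁻¹) * t⁻¹) * r := by group
        _ = r⁻¹ * q' * n * (r⁻¹ * q')⁻¹ := by rw [h1]; group
    have h3 := hcon0 _ ht' (c.fix_congr D (mul_mem (inv_mem hr) hq') hq e1 ht' h2)
    have e2 : r * p * v i * (r * p)⁻¹ = p' * v i * p'⁻¹ := by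
      calc r * p * v i * (r * p)⁻¹ = r * (p * v i * p⁻¹) * r⁻¹ := by group
        _ = _ := hr1
    refine c.fix_congr D (mul_mem hr hp) hp' e2 ht ?_
    calc t * (r * p * n * (r * p)⁻¹) * t⁻¹ = r * (r⁻¹ * t * r * (p * n * p⁻¹) * (r⁻¹ * t * r)⁻¹) * r⁻¹ := by group
      _ = r * p * n * (r * p)⁻¹ := by rw [h3]; group
  have hmoves : ∀ t ∈ o2 (P i), t * n * t⁻¹ ≠ n → ∀ p' ∈ P i,
      t * (p' * n * p'⁻¹) * t⁻¹ = p' * n * p'⁻¹ * (p' * v i * p'⁻¹) := by
    intro t ht h1 p' hp'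
    refine (c.chi_o D hp' ht).resolve_left fun h2 => h1 ?_
    have h3 := hall 1 (one_mem _) p' hp' t ht h2
    simpa using h3
  -- the group `F`
  set F : Subgroup G := NoFF.Basic.V (zpowers n) (P i) ⊔ V i with hF
  have hnF : ∀ p' ∈ P i, p' * n * p'⁻¹ ∈ F := fun p' hp' =>
    mem_sup_left (Z_le_V hp' ⟨n, mem_zpowers n, rfl⟩)
  have hVF : V i ≤ F := le_sup_right
  have hPF : P i ≤ normalizer (F : Set G) := by
    intro g hg
    refine ChoiceBase.mem_normalizer_iff_cj.2 ?_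
    change MulAut.conj g • (NoFF.Basic.V (zpowers n) (P i) ⊔ V i) = _
    rw [Subgroup.smul_sup, NOThreeL.Pair.conj_eq_of_mem (le_normalizer_V (zpowers n) (P i) hg),
      NOThreeL.Pair.conj_eq_of_mem (D.PN i i hg)]
  have hno : n ∈ o2 (P i) := Phi.N_le_o2 D i c.nN
  have hVo : V i ≤ o2 (P i) := by
    rw [ho]; exact le_inf (D.V_le_T i) fun x hx => mem_centralizer_iff.2 fun y hy => D.V_comm hy hx
  have hpow : ∀ x ∈ zpowers n, x = 1 ∨ x = n := by
    intro x hx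
    obtain ⟨k, rfl⟩ := mem_zpowers_iff.1 hx
    have h2 : n ^ (2 : ℤ) = 1 := by
      have := D.N_sq i n c.nN
      exact_mod_cast this
    rcases Int.even_or_odd' k with ⟨m, hm | hm⟩
    · left; rw [hm, zpow_mul, h2, one_zpow]
    · right; rw [hm, zpow_add, zpow_mul, h2, one_zpow, one_mul, zpow_one]
  -- generated by the `n^p` and `V i`
  have hFle : ∀ K : Subgroup G, (∀ p' ∈ P i, p' * n * p'⁻¹ ∈ K) → V i ≤ K → F ≤ K := by
    intro K h1 h2
    refine sup_le (V_le fun g hg => ?_) h2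
    rintro _ ⟨x, hx, rfl⟩
    rcases hpow x hx with h | h
    · subst h; simp
    · subst h; exact h1 g hg
  have hFo : F ≤ o2 (P i) := hFle _ (fun p' hp' => o2_conj D hp' hno) hVo
  have hFT : F ≤ T := hFo.trans (by rw [ho]; exact inf_le_left)
  have hcomm : ∀ p' ∈ P i, ∀ q' ∈ P i, p' * n * p'⁻¹ * (q' * n * q'⁻¹) = q' * n * q'⁻¹ * (p' * n * p'⁻¹) := by
    intro p' hp' q' hq'
    by_contra hne
    have h1 := (c.chi_o D hq' (o2_conj D hp' hno)).resolve_left fun h => hne (by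
      rw [mul_inv_eq_iff_eq_mul] at h; exact h)
    have h2 := (c.chi_o D hp' (o2_conj D hq' hno)).resolve_left fun h => hne (by
      rw [mul_inv_eq_iff_eq_mul] at h; exact h.symm)
    have hs : ∀ g : G, g * n * g⁻¹ * (g * n * g⁻¹) = 1 := fun g => by
      calc g * n * g⁻¹ * (g * n * g⁻¹) = g * (n * n) * g⁻¹ := by group
        _ = 1 := by rw [c.sq D]; group
    have hi : ∀ g : G, (g * n * g⁻¹)⁻¹ = g * n * g⁻¹ := fun g => inv_eq_of_mul_eq_one_left (hs g)
    rw [hi] at h1 h2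
    -- `a b a = b y`, `b a b = a x`
    have hx2 : p' * v i * p'⁻¹ * (p' * v i * p'⁻¹) = 1 := by
      calc p' * v i * p'⁻¹ * (p' * v i * p'⁻¹) = p' * (v i * v i) * p'⁻¹ := by group
        _ = 1 := by rw [D.v_sq i]; group
    have hpv : q' * n * q'⁻¹ * (p' * v i * p'⁻¹) = p' * v i * p'⁻¹ * (q' * n * q'⁻¹) := by
      have h3 := o2_comm D (o2_conj D hq' hno) (mem_V_conj D hp')
      rw [mul_inv_eq_iff_eq_mul] at h3
      exact h3
    have key : p' * v i * p'⁻¹ = q' * v i * q'⁻¹ := by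
      -- `(a b)^2 = y`, `(b a)^2 = x`
      have k1 : p' * n * p'⁻¹ * (q' * n * q'⁻¹) * (p' * n * p'⁻¹) * (q' * n * q'⁻¹) = q' * v i * q'⁻¹ := by
        rw [h1]
        have h3 : q' * v i * q'⁻¹ * (q' * n * q'⁻¹) = q' * n * q'⁻¹ * (q' * v i * q'⁻¹) := by
          have h4 : v i * n = n * v i := (mem_centralizer_singleton_iff.1 (D.N_le_C i i c.nN)).symm
          calc q' * v i * q'⁻¹ * (q' * n * q'⁻¹) = q' * (v i * n) * q'⁻¹ := by group
            _ = q' * (n * v i) * q'⁻¹ := by rw [h4]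
            _ = _ := by group
        rw [mul_assoc, h3, ← mul_assoc, hs, one_mul]
      have k2 : p' * n * p'⁻¹ * (q' * n * q'⁻¹) * (p' * n * p'⁻¹) * (q' * n * q'⁻¹) = p' * v i * p'⁻¹ := by
        calc p' * n * p'⁻¹ * (q' * n * q'⁻¹) * (p' * n * p'⁻¹) * (q' * n * q'⁻¹)
            = p' * n * p'⁻¹ * (q' * n * q'⁻¹ * (p' * n * p'⁻¹) * (q' * n * q'⁻¹)) := by group
          _ = p' * v i * p'⁻¹ := by rw [h2, ← mul_assoc, hs, one_mul]
      rw [← k2, k1]
    have h3 : q'⁻¹ * p' ∈ CC v i := by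
      rw [mem_centralizer_singleton_iff]
      calc q'⁻¹ * p' * v i = q'⁻¹ * (p' * v i * p'⁻¹) * p' := by group
        _ = v i * (q'⁻¹ * p') := by rw [key]; group
    rcases c.same D h3 (mul_mem (inv_mem (D.PN i i hq')) (D.PN i i hp')) with h4 | h4
    · exact hne (by rw [h4])
    · apply hne
      rw [h4]
      have h5 : q' * v i * q'⁻¹ * (q' * n * q'⁻¹) = q' * n * q'⁻¹ * (q' * v i * q'⁻¹) := by
        have h4 : v i * n = n * v i := (mem_centralizer_singleton_iff.1 (D.N_le_C i i c.nN)).symm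
        calc q' * v i * q'⁻¹ * (q' * n * q'⁻¹) = q' * (v i * n) * q'⁻¹ := by group
          _ = q' * (n * v i) * q'⁻¹ := by rw [h4]
          _ = _ := by group
      rw [mul_assoc, h5, ← mul_assoc]
  have hFc : F ≤ centralizer (F : Set G) := by
    refine hFle _ (fun p' hp' => ?_) (fun x hx => ?_)
    · have : F ≤ centralizer ({p' * n * p'⁻¹} : Set G) :=
        hFle _ (fun q' hq' => mem_centralizer_singleton_iff.2 (hcomm q' hq' p' hp')) fun x hx => by
          rw [mem_centralizer_singleton_iff]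
          have h3 := o2_comm D (o2_conj D hp' hno) hx
          rw [mul_inv_eq_iff_eq_mul] at h3
          exact h3.symm
      exact mem_centralizer_iff.2 fun y hy => mem_centralizer_singleton_iff.1 (this hy)
    · refine mem_centralizer_iff.2 fun y hy => ?_
      have h3 := o2_comm D (hFo hy) hx
      rw [mul_inv_eq_iff_eq_mul] at h3
      exact h3
  have hF2 : ∀ x ∈ F, x ^ 2 = 1 := by
    let K : Subgroup G :=
      { carrier := {x | x ∈ F ∧ x ^ 2 = 1}
        one_mem' := ⟨one_mem _, one_pow 2⟩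
        mul_mem' := by
          rintro a b ⟨ha, ha'⟩ ⟨hb, hb'⟩
          refine ⟨mul_mem ha hb, ?_⟩
          have h1 : Commute a b := (mem_centralizer_iff.1 (hFc hb) a ha)
          rw [h1.mul_pow, ha', hb', one_mul]
        inv_mem' := by
          rintro a ⟨ha, ha'⟩
          exact ⟨inv_mem ha, by rw [inv_pow, ha', inv_one]⟩ }
    have h1 : F ≤ K := by
      refine hFle K (fun p' hp' => ⟨hnF p' hp', ?_⟩) fun x hx => ⟨hVF hx, D.sqV i x hx⟩
      rw [conj_pow, D.N_sq i n c.nN, mul_one, mul_inv_cancel]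
    exact fun x hx => (h1 hx).2
  have hn1 : n ∈ F := by simpa using hnF 1 (one_mem _)
  have hFO : F ≤ o2 (centralizer (zc T : Set G)) :=
    (hFle _ (fun p' hp' => c.mem_Qj D hML hK hp') (D.half (ne_add_one i).symm).1).trans (D.Q_le_o2D (i + 1))
  obtain ⟨A, hAT, hAF, hle⟩ := hB F hVF hFO ((D.T_le_P i).trans hPF) hFc hF2
  -- elements of `o2` fixing `n` centralise `F`
  have hfixF : ∀ t ∈ o2 (P i), t * n * t⁻¹ = n → t ∈ centralizer (F : Set G) := by
    intro t ht h1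
    have : F ≤ centralizer ({t} : Set G) := by
      refine hFle _ (fun p' hp' => ?_) fun x hx => ?_
      · rw [mem_centralizer_singleton_iff]
        have h2 := hall p' hp' 1 (one_mem _) t ht (by simpa using h1)
        rw [mul_inv_eq_iff_eq_mul] at h2
        exact h2.symm
      · rw [mem_centralizer_singleton_iff]
        have h2 := o2_comm D ht hx
        rw [mul_inv_eq_iff_eq_mul] at h2
        exact h2.symm
    exact mem_centralizer_iff.2 fun y hy => mem_centralizer_singleton_iff.1 (this hy)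
  have hchi1 : ∀ t ∈ o2 (P i), t * n * t⁻¹ = n ∨ t * n * t⁻¹ = n * v i := by
    intro t ht
    have := c.chi_o D (one_mem (P i)) ht
    simpa using this
  have hvn : v i * n = n * v i := (mem_centralizer_singleton_iff.1 (D.N_le_C i i c.nN)).symm
  have hov : ∀ t ∈ o2 (P i), t * v i * t⁻¹ = v i := fun t ht => o2_comm D ht (D.mem i)
  -- index at most two on `o2`
  have hidx : ∀ B : Subgroup G, B ≤ o2 (P i) → (centralizer (F : Set G)).relIndex B ≤ 2 := by
    intro B hBo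
    refine rel_le_two fun x hx y hy hxn hyn => ?_
    have h1 := (hchi1 x (hBo hx)).resolve_left fun h => hxn (hfixF x (hBo hx) h)
    have h2 := (hchi1 y (hBo hy)).resolve_left fun h => hyn (hfixF y (hBo hy) h)
    refine hfixF _ (mul_mem (hBo hx) (hBo hy)) ?_
    calc x * y * n * (x * y)⁻¹ = x * (y * n * y⁻¹) * x⁻¹ := by group
      _ = (x * n * x⁻¹) * (x * v i * x⁻¹) := by rw [h2]; group
      _ = n * (v i * v i) := by rw [h1, hov x (hBo hx)]; group
      _ = n := by rw [D.v_sq i, mul_one]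
  -- a second point
  obtain ⟨e, he, he1, hev⟩ := D.exists_ne_v i
  obtain ⟨l, hl, -, hle'⟩ := D.tr (ne_add_one i) he he1
  set m : G := l * n * l⁻¹ with hm
  have hmF : m ∈ F := hnF l hl
  have hve : v i * e ≠ 1 := by
    intro h
    apply hev
    have h2 : v i * e = v i * v i := by rw [h, D.v_sq]
    exact mul_left_cancel h2
  -- `n`, `m`, `n m` are moved by the elements of `o2` moving `n`
  have h3 : ∀ s ∈ o2 (P i), s * n * s⁻¹ ≠ n → s * m * s⁻¹ = m * e := by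
    intro s hs h1
    have := hmoves s hs h1 l hl
    rw [hle'] at this
    exact this
  have hthree : ∀ s ∈ o2 (P i), s ∉ centralizer (F : Set G) → ∀ B : Subgroup G, s ∈ B →
      n ∉ centralizer (B : Set G) ∧ m ∉ centralizer (B : Set G) ∧ n * m ∉ centralizer (B : Set G) := by
    intro s hs hsF B hsB
    have h1 : s * n * s⁻¹ ≠ n := fun h => hsF (hfixF s hs h)
    have h1' := (hchi1 s hs).resolve_left h1
    have h2 := h3 s hs h1
    have hc : ∀ x ∈ centralizer (B : Set G), s * x * s⁻¹ = x := by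
      intro x hx
      rw [mem_centralizer_iff.1 hx s hsB, mul_inv_cancel_right]
    refine ⟨fun h => h1 (hc _ h), fun h => ?_, fun h => ?_⟩
    · have := hc _ h
      rw [h2] at this
      exact he1 (mul_eq_left.1 this)
    · have h4 := hc _ h
      have h5 : s * (n * m) * s⁻¹ = (s * n * s⁻¹) * (s * m * s⁻¹) := by group
      rw [h5, h1', h2] at h4
      have h6 : v i * m = m * v i := by
        have h7 := o2_comm D (hFo hmF) (D.mem i)
        rw [mul_inv_eq_iff_eq_mul] at h7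
        exact h7.symm
      have h7 : n * v i * (m * e) = n * m * (v i * e) := by
        calc n * v i * (m * e) = n * (v i * m) * e := by group
          _ = n * m * (v i * e) := by rw [h6]; group
      rw [h7] at h4
      exact hve (mul_eq_left.1 h4)
  by_cases hAo : A ≤ o2 (P i)
  · obtain ⟨s, hs, hsF⟩ := SetLike.not_le_iff_exists.1 hAF
    obtain ⟨k1, k2, k3⟩ := hthree s (hAo hs) hsF A hs
    have h4 := three_le_rel hn1 hmF k1 k2 k3
    have h5 := hidx A hAo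
    omega
  · obtain ⟨a, ha, hao⟩ := SetLike.not_le_iff_exists.1 hAo
    have haT := hAT ha
    have hae : a * e * a⁻¹ = e * v i := Phi.moves D haT hao he he1 hev
    have haP := D.T_le_P i haT
    -- a mover in `o2`
    obtain ⟨s, hs, hsn⟩ := c.mv D hB hV
    have hsne : s * n * s⁻¹ ≠ n := by
      rw [hsn]; intro h; exact D.ne i (mul_eq_left.1 h)
    have hsm := h3 s hs hsne
    -- the vector at `e v i`
    have hsam : s * (a * m * a⁻¹) * s⁻¹ = a * m * a⁻¹ * (e * v i) := by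
      have h4 := hmoves s hs hsne (a * l) (mul_mem haP hl)
      have e1 : a * l * n * (a * l)⁻¹ = a * m * a⁻¹ := by rw [hm]; group
      have e2 : a * l * v i * (a * l)⁻¹ = e * v i := by
        rw [← hae, ← hle']; group
      rwa [e1, e2] at h4
    have hse : s * e * s⁻¹ = e := o2_comm D hs he
    have hsv : s * v i * s⁻¹ = v i := hov s hs
    have hme : a * m * a⁻¹ ≠ m := by
      intro h
      rw [h, hsm] at hsam
      exact D.ne i (by simpa using hsam.symm)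
    have hca : ∀ x ∈ centralizer (A : Set G), a * x * a⁻¹ = x := by
      intro x hx
      rw [mem_centralizer_iff.1 hx a ha, mul_inv_cancel_right]
    have k1 : e ∉ centralizer (A : Set G) := by
      intro h
      have := hca e h
      rw [hae] at this
      exact D.ne i (mul_eq_left.1 this)
    have k2 : m ∉ centralizer (A : Set G) := fun h => hme (hca m h)
    have k3 : e * m ∉ centralizer (A : Set G) := by
      intro h
      have h4 := hca _ h
      have e1 : a * (e * m) * a⁻¹ = (a * e * a⁻¹) * (a * m * a⁻¹) := by group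
      rw [e1, hae] at h4
      -- conjugate with `s`
      have h5 := congrArg (fun t => s * t * s⁻¹) h4
      have e2 : s * (e * v i * (a * m * a⁻¹)) * s⁻¹ =
          (s * e * s⁻¹) * (s * v i * s⁻¹) * (s * (a * m * a⁻¹) * s⁻¹) := by group
      have e3 : s * (e * m) * s⁻¹ = (s * e * s⁻¹) * (s * m * s⁻¹) := by group
      simp only [e2, e3, hse, hsv, hsam, hsm] at h5
      have h6 : e * v i * (a * m * a⁻¹ * (e * v i)) = e * m * (e * v i) := by
        rw [← mul_assoc, h4]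
      have h7 : e * (m * e) * v i = e * (m * e) := by
        calc e * (m * e) * v i = e * m * (e * v i) := by group
          _ = e * v i * (a * m * a⁻¹ * (e * v i)) := h6.symm
          _ = e * (m * e) := h5
      exact D.ne i (mul_eq_left.1 h7)
    have h6 := three_le_rel (hVF he) hmF k1 k2 k3
    -- `A_0`
    set A₀ : Subgroup G := A ⊓ o2 (P i) with hA₀
    have hCo : A ⊓ centralizer (F : Set G) ≤ A₀ := by
      intro x hx
      refine ⟨hx.1, ?_⟩
      rw [ho]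
      exact ⟨hAT hx.1, centralizer_le hVF hx.2⟩
    have h7 : A₀.relIndex A ≤ 2 := by
      refine rel_le_two fun x hx y hy hxn hyn => ⟨mul_mem hx hy, ?_⟩
      exact Phi.mul_mem_o2 D (hAT hx) (fun h => hxn ⟨hx, h⟩) (hAT hy) fun h => hyn ⟨hy, h⟩
    have h8 : (A ⊓ centralizer (F : Set G)).relIndex A₀ * A₀.relIndex A = (centralizer (F : Set G)).relIndex A := by
      rw [relIndex_mul_relIndex _ _ _ hCo inf_le_left, inf_relIndex_left]
    have h9 : (A ⊓ centralizer (F : Set G)).relIndex A₀ = (centralizer (F : Set G)).relIndex A₀ := by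
      rw [← inf_relIndex_right (A ⊓ centralizer (F : Set G)), ← inf_relIndex_right (centralizer (F : Set G)),
        inf_comm A, inf_assoc, inf_eq_right.2 (inf_le_left : A₀ ≤ A)]
    by_cases hA₀F : A₀ ≤ centralizer (F : Set G)
    · rw [h9, relIndex_eq_one.2 hA₀F, one_mul] at h8
      omega
    · obtain ⟨s', hs', hsF'⟩ := SetLike.not_le_iff_exists.1 hA₀F
      obtain ⟨j1, j2, j3⟩ := hthree s' hs'.2 hsF' (zpowers s') (mem_zpowers _)
      have h10 := three_le_rel hn1 hmF j1 j2 j3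
      have h11 := hidx A₀ inf_le_right
      -- `F ∩ C(s')`
      set F' : Subgroup G := F ⊓ centralizer ((zpowers s' : Subgroup G) : Set G) with hF'
      have h12 : F'.relIndex F = (centralizer ((zpowers s' : Subgroup G) : Set G)).relIndex F := inf_relIndex_left _ _
      have hle2 : F ⊓ centralizer (A : Set G) ≤ F' := by
        refine inf_le_inf_left _ (centralizer_le ?_)
        exact zpowers_le.2 hs'.1
      have h13 : (F ⊓ centralizer (A : Set G)).relIndex F' * F'.relIndex F = (centralizer (A : Set G)).relIndex F := by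
        rw [relIndex_mul_relIndex _ _ _ hle2 inf_le_left, inf_relIndex_left]
      have heF' : e ∈ F' := by
        refine ⟨hVF he, mem_centralizer_iff.2 ?_⟩
        rintro _ ⟨k, rfl⟩
        have h14 : Commute s' e := by
          have := o2_comm D hs'.2 he
          rw [mul_inv_eq_iff_eq_mul] at this
          exact this
        exact (h14.zpow_left k).eq
      have h14 := two_le_rel heF' (K := F ⊓ centralizer (A : Set G)) fun h => k1 h.2
      have h15 : 2 * 3 ≤ (centralizer (A : Set G)).relIndex F := by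
        rw [← h13, h12]
        exact Nat.mul_le_mul h14 h10
      have h16 : (centralizer (F : Set G)).relIndex A ≤ 2 * 2 := by
        rw [← h8, h9]
        exact Nat.mul_le_mul h11 h7
      omega

end fr

end Cfsg.Agent.Omega.TC.R
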