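import Cfsg.Agent.Omega.TC.R.Vec

/-!
# CARD #18791, THEOREM R (helper691 #21425 (3)-(5)): the local contradiction

`locF : LocF T V v i` from `Fr`, `VOff T` and `V i ≰ N_i`.
-/

set_option autoImplicit false
set_option linter.unusedSectionVars false

namespace Cfsg.Agent.Omega.TC.R

open Subgroup Cfsg Cfsg.Agent.ZN Cfsg.Agent.Omega.MinPar
open Cfsg.Agent.Omega.OM.KTwo (CC QQ WU NU EU FF ne_add_one eq_add_one add_one_add_one le_normalizer_V le_V)
open Cfsg.Agent.Omega.NoFF.Basic (conj_conj mem_conj conj_le_iff conj_le_centralizer comm_symm comm_mono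
  Z_le_V V_le conj_V_mul)
open Cfsg.Agent.Omega.NOThreeL.Pair (conj_eq_of_mem)
open Cfsg.Agent.ZN.ChoiceSit (syl_not_dvd)
open scoped Pointwise

universe u

variable {G : Type u} [Group G] [Finite G] {T : Subgroup G} {V P : Fin 2 → Subgroup G} {v : Fin 2 → G}

omit [Finite G] in
theorem nnc (A : Subgroup G) : normalizer (A : Set G) ≤ normalizer ((centralizer (A : Set G) : Subgroup G) : Set G) := by
  refine le_normalizer_of' fun g hg x hx => ?_
  rw [mem_centralizer_iff] at hx ⊢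
  intro y hy
  have h1 := hx _ ((mem_normalizer_iff''.1 hg y).1 hy)
  calc y * (g * x * g⁻¹) = g * (g⁻¹ * y * g * x) * g⁻¹ := by group
    _ = g * x * g⁻¹ * y := by rw [h1]; group

theorem relIndex_sup_norm {X E : Subgroup G} (h : X ≤ normalizer (E : Set G)) :
    X.relIndex (E ⊔ X) = X.relIndex E := by
  have hKH : E ≤ E ⊔ X := le_sup_left
  have hn : (E.subgroupOf (E ⊔ X)).Normal := (normal_subgroupOf_iff_le_normalizer hKH).2 (sup_le le_normalizer h)
  have h1 : E.relIndex (E ⊔ X) = E.relIndex X := by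
    have h := Subgroup.relIndex_sup_left (K := E.subgroupOf (E ⊔ X)) (H := X.subgroupOf (E ⊔ X))
    rw [← Subgroup.subgroupOf_sup hKH le_sup_right, Subgroup.relIndex_subgroupOf le_rfl,
      Subgroup.relIndex_subgroupOf le_sup_right] at h
    exact h
  have h2 := Subgroup.relIndex_mul_relIndex (E ⊓ X) E (E ⊔ X) inf_le_left le_sup_left
  have h3 := Subgroup.relIndex_mul_relIndex (E ⊓ X) X (E ⊔ X) inf_le_right le_sup_right
  have h4 : (E ⊓ X).relIndex X = E.relIndex X := Subgroup.inf_relIndex_right E X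
  have h4' : (E ⊓ X).relIndex E = X.relIndex E := Subgroup.inf_relIndex_left E X
  rw [h1, h4'] at h2
  rw [h4, ← h2, mul_comm] at h3
  exact Nat.eq_of_mul_eq_mul_right (Nat.pos_of_ne_zero (Subgroup.index_ne_zero_of_finite
      (H := E.subgroupOf X))) h3

section fr

variable (D : Fr T V P v)

include D

/-- a flag on a moved line is moved -/
theorem moved_point {i : Fin 2} {f : G} (hf : f ∈ CC v i) {c p : G} (hc : c ∈ CC v i) (hp : p ∈ P i)
    (hpv : p * v i * p⁻¹ ≠ v i) (hmv : ¬ ∀ x ∈ V i, f * (c * x * c⁻¹) * f⁻¹ ∈ MulAut.conj c • V i) :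
    f * (c * p * v i * (c * p)⁻¹) * f⁻¹ ≠ c * p * v i * (c * p)⁻¹ := by
  intro h
  apply hmv
  intro x hx
  by_cases hx1 : x = 1
  · rw [hx1]; simp
  have hyV := mem_V_conj D hp
  have hy1 : p * v i * p⁻¹ ≠ 1 := fun h => D.ne i (conj_eq_one_iff.1 h)
  have e1 : c * p * v i * (c * p)⁻¹ = c * (p * v i * p⁻¹) * c⁻¹ := by group
  rw [e1] at h
  have hv : f * (c * v i * c⁻¹) * f⁻¹ = c * v i * c⁻¹ := by
    rw [D.conj_v i hc, D.conj_v i hf]
  rcases D.eq_of_V hyV hy1 (D.mem i) (D.ne i) hpv hx hx1 with h2 | h2 | h2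
  · rw [h2, h]; exact ⟨_, hyV, rfl⟩
  · rw [h2, hv]; exact ⟨_, D.mem i, rfl⟩
  · have e2 : f * (c * x * c⁻¹) * f⁻¹ = (f * (c * (p * v i * p⁻¹) * c⁻¹) * f⁻¹) * (f * (c * v i * c⁻¹) * f⁻¹) := by
      rw [h2]; group
    rw [e2, h, hv]
    exact ⟨_, mul_mem hyV (D.mem i), by simp [MulAut.conj_apply, mul_assoc]⟩

/-- `A` moves a line on `v i` -/
theorem Loc.exists_moved {i : Fin 2} {n : G} {A : Subgroup G} (L : Loc T V v i n A) :
    ∃ f ∈ A, ∃ c ∈ CC v i, ¬ ∀ x ∈ V i, f * (c * x * c⁻¹) * f⁻¹ ∈ MulAut.conj c • V i := by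
  by_contra hcon
  push Not at hcon
  apply L.mv
  intro f hf
  refine D.fThree i (L.le hf) ?_
  -- `f` normalises all the lines; `[w, f] ∈ ⟨v i⟩` on each line and so on `W_i`
  have hfC := L.le hf
  have hn : ∀ c ∈ CC v i, c⁻¹ * f * c ∈ normalizer (V i : Set G) := by
    intro c hc
    have h2 := hcon f hf c hc
    refine ChoiceBase.mem_normalizer_iff_cj.2 ?_
    change MulAut.conj (c⁻¹ * f * c) • V i = V i
    refine Subgroup.eq_of_le_of_card_ge (fun w hw => ?_)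
      (Nat.card_congr (Subgroup.equivSMul (MulAut.conj (c⁻¹ * f * c)) (V i)).toEquiv).le
    rw [mem_conj] at hw
    have h4 := h2 _ hw
    rw [mem_conj] at h4
    have e : c⁻¹ * (f * (c * ((c⁻¹ * f * c)⁻¹ * w * (c⁻¹ * f * c)) * c⁻¹) * f⁻¹) * c = w := by group
    rwa [e] at h4
  let U : Subgroup G :=
    { carrier := {w | w ∈ WU V v i ∧ f * w * f⁻¹ * w⁻¹ ∈ zpowers (v i)}
      one_mem' := ⟨one_mem _, by simp⟩
      mul_mem' := by
        rintro a b ⟨ha, ha'⟩ ⟨hb, hb'⟩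
        refine ⟨mul_mem ha hb, ?_⟩
        have e : f * (a * b) * f⁻¹ * (a * b)⁻¹ = (f * a * f⁻¹ * a⁻¹) * (a * (f * b * f⁻¹ * b⁻¹) * a⁻¹) := by group
        rw [e, cv D (D.W_le_C i i ha) hb']
        exact mul_mem ha' hb'
      inv_mem' := by
        rintro a ⟨ha, ha'⟩
        refine ⟨inv_mem ha, ?_⟩
        have e : f * a⁻¹ * f⁻¹ * a⁻¹⁻¹ = (a⁻¹ * (f * a * f⁻¹ * a⁻¹) * a⁻¹⁻¹)⁻¹ := by group
        rw [e, cv D (inv_mem (D.W_le_C i i ha)) ha']
        exact inv_mem ha' }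
  have key : WU V v i ≤ U := by
    refine V_le fun c hc w hw => ?_
    have hwW : w ∈ WU V v i := by
      have h2 : MulAut.conj c • V i ≤ MulAut.conj c • WU V v i := conj_le_iff.2 (D.V_le_W i)
      rw [conj_eq_of_mem (D.C_le_N_W i hc)] at h2
      exact h2 hw
    refine ⟨hwW, ?_⟩
    rw [mem_conj] at hw
    have hcf : c⁻¹ * f * c ∈ CC v i := mul_mem (mul_mem (inv_mem hc) hfC) hc
    have h3 := D.comm_VN hcf (hn c hc) hw
    have h4 := cv D hc h3
    rw [← h4] at h3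
    have h5 := cv D (D.W_le_C i i hwW) h3
    rw [← h5] at h3
    have e : w * (c * ((c⁻¹ * w * c)⁻¹ * (c⁻¹ * f * c) * (c⁻¹ * w * c) * (c⁻¹ * f * c)⁻¹) * c⁻¹) * w⁻¹ =
        f * w * f⁻¹ * w⁻¹ := by group
    rwa [e] at h3
  exact fun w hw => (key hw).2

/-- **(3)** -/
theorem Loc.three {i : Fin 2} {n : G} {A : Subgroup G} (L : Loc T V v i n A) {k : G} (hk : k ∈ QQ v i)
    (hkV : k ∈ centralizer (V i : Set G)) {p : G} (hp : p ∈ P i) : k * (p * n * p⁻¹) * k⁻¹ = p * n * p⁻¹ := by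
  have hXC := D.Q_le_cent_N i
  by_cases hpv : p * v i * p⁻¹ = v i
  · have hpC : p ∈ CC v i := by
      rw [mem_centralizer_singleton_iff]
      calc p * v i = p * v i * p⁻¹ * p := by group
        _ = v i * p := by rw [hpv]
    have hN : p * n * p⁻¹ ∈ NU V v i := (mem_normalizer_iff.1 (D.C_le_N_N i hpC) n).1 L.can.nN
    rw [← mem_centralizer_iff.1 (hXC hk) _ hN, mul_inv_cancel_right]
  obtain ⟨f, hf, c, hc, hmv⟩ := L.exists_moved D
  have hfC := L.le hf
  have hy' := moved_point D hfC hc hp hpv hmv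
  have hgF : Fl V v i (c * p) := Fl_mul D hc (Fl_P D hp)
  have h2 := L.two _ hgF f hf hy'
  set g := c * p with hg
  set y := g * v i * g⁻¹ with hy
  set k' := c * k * c⁻¹ with hk'
  have hk'Q : k' ∈ QQ v i := (mem_normalizer_iff.1 (ZN.le_normalizer_o2 _ hc) k).1 hk
  have hVg : MulAut.conj g • V i = MulAut.conj c • V i := by
    rw [hg, ← conj_conj, conj_eq_of_mem (D.PN i i hp)]
  have hk'C : k' ∈ centralizer ((MulAut.conj g • V i : Subgroup G) : Set G) := by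
    rw [hVg, mem_centralizer_iff]
    intro x hx
    rw [SetLike.mem_coe, mem_conj] at hx
    have h3 := mem_centralizer_iff.1 hkV _ hx
    calc x * k' = c * (c⁻¹ * x * c * k) * c⁻¹ := by rw [hk']; group
      _ = k' * x := by rw [h3, hk']; group
  have hN : ∀ x ∈ NU V v i, k' * x = x * k' := fun x hx => (mem_centralizer_iff.1 (hXC hk'Q) x hx).symm
  have hk'C' : k' ∈ centralizer ((MulAut.conj (f * g) • V i : Subgroup G) : Set G) := by
    rw [mem_centralizer_iff]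
    intro x hx
    rw [← conj_conj, SetLike.mem_coe, mem_conj] at hx
    set z := f⁻¹ * x * f with hz
    have hxz : x = f * z * f⁻¹ := by rw [hz]; group
    have hzX : z ∈ XX V v i := (le_sup_left : WU V v i ≤ XX V v i) (Fl_line D hgF hx)
    have h3 := hN _ (L.aX f hf z hzX)
    have h4 : z * k' = k' * z := mem_centralizer_iff.1 hk'C z hx
    have e : x = (f * z * f⁻¹ * z⁻¹) * z := by rw [hxz]; group
    rw [e, mul_assoc, h4, ← mul_assoc, ← h3]; group
  -- the two functionals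
  have hfix : k' * (g * n * g⁻¹) * k'⁻¹ = g * n * g⁻¹ := by
    rcases L.can.chi D g hk'C with h3 | h3
    · exact h3
    exfalso
    rw [← hy] at h3
    set u := f * (g * n * g⁻¹) * f⁻¹ * (g * n * g⁻¹)⁻¹ with hu
    have h4 := hN u h2
    have h5 : k' * (f * g * n * (f * g)⁻¹) * k'⁻¹ = f * g * n * (f * g)⁻¹ * y := by
      have e1 : f * g * n * (f * g)⁻¹ = u * (g * n * g⁻¹) := by rw [hu]; group
      rw [e1]
      calc k' * (u * (g * n * g⁻¹)) * k'⁻¹ = (k' * u) * (g * n * g⁻¹) * k'⁻¹ := by group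
        _ = u * (k' * (g * n * g⁻¹) * k'⁻¹) := by rw [h4]; group
        _ = u * (g * n * g⁻¹) * y := by rw [h3]; group
    have h6 : y ≠ 1 := fun h => D.ne i (conj_eq_one_iff.1 h)
    rcases L.can.chi D (f * g) hk'C' with h7 | h7
    · rw [h5] at h7
      exact h6 (mul_eq_left.1 h7)
    · rw [h5] at h7
      have h8 := mul_left_cancel h7
      apply hy'
      calc f * y * f⁻¹ = f * g * v i * (f * g)⁻¹ := by rw [hy]; group
        _ = y := h8.symm
  have h9 : k * (p * n * p⁻¹) * k⁻¹ = c⁻¹ * (k' * (g * n * g⁻¹) * k'⁻¹) * c := by rw [hk', hg]; group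
  rw [h9, hfix, hg]; group

/-- **(4)** -/
theorem Loc.four (hML : ML.Final.MLK.{u, u}) (hK : ∀ i, IsKGroup (CC v i)) {i : Fin 2} (hB : WOff T V i)
    (hV : ¬ V i ≤ NU V v i) {n : G} {A : Subgroup G} (L : Loc T V v i n A) :
    QQ v i ≤ centralizer (V i : Set G) := by
  intro k hk
  by_contra hkV
  have hkT := D.Q_le_T i hk
  have ho : o2 (P i) = T ⊓ centralizer (V i : Set G) := Phi.o2_P D i
  have hko : k ∉ o2 (P i) := by rw [ho]; exact fun h => hkV h.2
  obtain ⟨e, he, he1, hev⟩ := D.exists_ne_v i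
  obtain ⟨p, hp, -, hpe⟩ := D.tr (ne_add_one i) he he1
  have hke := Phi.moves D hkT hko he he1 hev
  have hkP := D.T_le_P i hkT
  have hev1 : e * v i ≠ 1 := by
    intro h
    apply hev
    have h2 : e * v i = v i * v i := by rw [h, D.v_sq]
    exact mul_right_cancel h2
  have hq : k * p * v i * (k * p)⁻¹ = e * v i := by
    rw [← hke, ← hpe]; group
  obtain ⟨t, ht, h1, h2⟩ := L.can.indep D hML hK hB hV hp (mul_mem hkP hp) (by
    rw [hpe, hq]
    intro h
    exact D.ne i (left_eq_mul.1 h))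
  have h1' := (L.can.chi_o D hp ht).resolve_left h1
  rw [hpe] at h1'
  have htT : t ∈ T ∧ t ∈ centralizer (V i : Set G) := by rw [ho] at ht; exact ht
  have htC : t ∈ CC v i := D.T_le_C i htT.1
  set m := t * k * t⁻¹ * k⁻¹ with hm
  have hmQ : m ∈ QQ v i := by
    refine mul_mem ?_ (inv_mem hk)
    exact (mem_normalizer_iff.1 (ZN.le_normalizer_o2 _ htC) k).1 hk
  have hmV : m ∈ centralizer (V i : Set G) := by
    rw [mem_centralizer_iff]
    intro x hx
    have h3 : k⁻¹ * x * k ∈ V i := (mem_normalizer_iff''.1 (D.T_le_N i hkT) x).1 hx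
    have h4 := mem_centralizer_iff.1 htT.2 _ h3
    have h5 := mem_centralizer_iff.1 htT.2 _ hx
    have h6 : m * x * m⁻¹ = x := by
      calc m * x * m⁻¹ = t * k * (t⁻¹ * (k⁻¹ * x * k * t)) * k⁻¹ * t⁻¹ := by rw [hm]; group
        _ = t * x * t⁻¹ := by rw [h4]; group
        _ = x := by rw [← h5, mul_inv_cancel_right]
    calc x * m = m * x * m⁻¹ * m := by rw [h6]
      _ = m * x := by group
  have h3 := L.three D hmQ hmV (mul_mem hkP hp)
  have h4 := mem_centralizer_iff.1 hmV (e * v i) (mul_mem he (D.mem i))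
  have h5 : t * (k * p * n * (k * p)⁻¹) * t⁻¹ = k * p * n * (k * p)⁻¹ * (e * v i) := by
    calc t * (k * p * n * (k * p)⁻¹) * t⁻¹ = m * (k * (t * (p * n * p⁻¹) * t⁻¹) * k⁻¹) * m⁻¹ := by rw [hm]; group
      _ = m * (k * p * n * (k * p)⁻¹ * (k * e * k⁻¹)) * m⁻¹ := by rw [h1']; group
      _ = (m * (k * p * n * (k * p)⁻¹) * m⁻¹) * (m * (e * v i) * m⁻¹) := by rw [hke]; group
      _ = k * p * n * (k * p)⁻¹ * (e * v i) := by rw [h3, ← h4, mul_inv_cancel_right]
  rw [h2] at h5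
  exact hev1 (left_eq_mul.1 h5)

/-- `{c ∈ C_i : [n^g, c] ∈ N_i (g a flag), [X_i, c] ≤ N_i}` -/
def GX (D : Fr T V P v) (i : Fin 2) (n : G) : Subgroup G where
  carrier := {c | c ∈ CC v i ∧ (∀ g, Fl V v i g → c * (g * n * g⁻¹) * c⁻¹ * (g * n * g⁻¹)⁻¹ ∈ NU V v i) ∧
    ∀ x ∈ XX V v i, c * x * c⁻¹ * x⁻¹ ∈ NU V v i}
  one_mem' := ⟨one_mem _, fun g _ => by simp, fun x _ => by simp⟩
  mul_mem' := by
    rintro a b ⟨ha, ha', ha''⟩ ⟨hb, hb', hb''⟩
    have hcom : ∀ u : G, a * u * a⁻¹ * u⁻¹ ∈ NU V v i → b * u * b⁻¹ * u⁻¹ ∈ NU V v i →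
        a * b * u * (a * b)⁻¹ * u⁻¹ ∈ NU V v i := by
      intro u h1 h2
      have e : a * b * u * (a * b)⁻¹ * u⁻¹ = (a * (b * u * b⁻¹ * u⁻¹) * a⁻¹) * (a * u * a⁻¹ * u⁻¹) := by group
      rw [e]
      exact mul_mem ((mem_normalizer_iff.1 (D.C_le_N_N i ha) _).1 h2) h1
    exact ⟨mul_mem ha hb, fun g hg => hcom _ (ha' g hg) (hb' g hg), fun x hx => hcom x (ha'' x hx) (hb'' x hx)⟩
  inv_mem' := by
    rintro a ⟨ha, ha', ha''⟩
    have hcom : ∀ u : G, a * u * a⁻¹ * u⁻¹ ∈ NU V v i → a⁻¹ * u * a⁻¹⁻¹ * u⁻¹ ∈ NU V v i := by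
      intro u h1
      have e : a⁻¹ * u * a⁻¹⁻¹ * u⁻¹ = a⁻¹ * (a * u * a⁻¹ * u⁻¹)⁻¹ * a⁻¹⁻¹ := by group
      rw [e]
      exact (mem_normalizer_iff.1 (D.C_le_N_N i (inv_mem ha)) _).1 (inv_mem h1)
    exact ⟨inv_mem ha, fun g hg => hcom _ (ha' g hg), fun x hx => hcom x (ha'' x hx)⟩

theorem GX_le (i : Fin 2) (n : G) : GX D i n ≤ CC v i := fun _ h => h.1

theorem GX_normal (i : Fin 2) (n : G) : CC v i ≤ normalizer (GX D i n : Set G) := by
  refine le_normalizer_of' fun d hd c hc => ?_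
  obtain ⟨h1, h2, h3⟩ := hc
  have hcom : ∀ u u' : G, d⁻¹ * u * d = u' → c * u' * c⁻¹ * u'⁻¹ ∈ NU V v i →
      d * c * d⁻¹ * u * (d * c * d⁻¹)⁻¹ * u⁻¹ ∈ NU V v i := by
    rintro u _ rfl h
    have e : d * c * d⁻¹ * u * (d * c * d⁻¹)⁻¹ * u⁻¹ =
        d * (c * (d⁻¹ * u * d) * c⁻¹ * (d⁻¹ * u * d)⁻¹) * d⁻¹ := by group
    rw [e]
    exact (mem_normalizer_iff.1 (D.C_le_N_N i hd) _).1 h
  refine ⟨mul_mem (mul_mem hd h1) (inv_mem hd), fun g hg => ?_, fun x hx => ?_⟩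
  · refine hcom _ (d⁻¹ * g * n * (d⁻¹ * g)⁻¹) (by group) ?_
    exact h2 _ (Fl_mul D (inv_mem hd) hg)
  · exact hcom _ _ rfl (h3 _ ((mem_normalizer_iff''.1 (D.C_le_N_X i hd) x).1 hx))

/-- a normal subgroup of `C_i` centralising `a * v_j`, `a ∈ V i`, centralises `N_i` -/
theorem cent_N_of_av {i : Fin 2} {X : Subgroup G} (hn : CC v i ≤ normalizer (X : Set G))
    {a : G} (ha : a ∈ V i) (h : a * v (i + 1) ∈ centralizer (X : Set G)) : X ≤ centralizer (NU V v i : Set G) := by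
  have hij := ne_add_one i
  obtain ⟨w, hw, hw1, hwv⟩ := D.exists_ne_v (i + 1)
  have hXc : ∀ l ∈ CC v i, ∀ x : G, x ∈ centralizer (X : Set G) → l * x * l⁻¹ ∈ centralizer (X : Set G) := by
    intro l hl x hx
    rw [mem_centralizer_iff] at hx ⊢
    intro y hy
    have h1 := hx _ ((mem_normalizer_iff''.1 (hn hl) y).1 hy)
    calc y * (l * x * l⁻¹) = l * (l⁻¹ * y * l * x) * l⁻¹ := by group
      _ = l * x * l⁻¹ * y := by rw [h1]; group
  obtain ⟨l, hl, hlV, hlw⟩ := D.tr hij.symm hw hw1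
  have hlC : l ∈ CC v i := cent_V_le D i hlV
  have h1 := hXc l hlC _ h
  have hla : l * a * l⁻¹ = a := by rw [← mem_centralizer_iff.1 hlV a ha, mul_inv_cancel_right]
  have h2 : l * (a * v (i + 1)) * l⁻¹ = a * w := by
    calc l * (a * v (i + 1)) * l⁻¹ = (l * a * l⁻¹) * (l * v (i + 1) * l⁻¹) := by group
      _ = a * w := by rw [hla, hlw]
  rw [h2] at h1
  -- `r = v_j⁻¹ w`
  have h3 : (v (i + 1))⁻¹ * w ∈ centralizer (X : Set G) := by
    have e : (a * v (i + 1))⁻¹ * (a * w) = (v (i + 1))⁻¹ * w := by group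
    rw [← e]
    exact Subgroup.mul_mem _ (Subgroup.inv_mem _ h) h1
  have hrV : (v (i + 1))⁻¹ * w ∈ V (i + 1) := (V (i + 1)).mul_mem ((V (i + 1)).inv_mem (D.mem _)) hw
  have hr1 : (v (i + 1))⁻¹ * w ≠ 1 := fun h => hwv (inv_mul_eq_one.1 h).symm
  obtain ⟨l', hl', hlV', hlr⟩ := D.tr hij.symm hrV hr1
  have hlC' : l' ∈ CC v i := cent_V_le D i hlV'
  have h4 : v (i + 1) ∈ centralizer (X : Set G) := by
    have h5 := hXc l'⁻¹ (inv_mem hlC') _ h3
    rw [← hlr] at h5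
    have e : l'⁻¹ * (l' * v (i + 1) * l'⁻¹) * l'⁻¹⁻¹ = v (i + 1) := by group
    rwa [e] at h5
  have h5 : NU V v i ≤ centralizer (X : Set G) :=
    D.N_le_of i h4 (hn.trans (nnc X))
  exact comm_symm h5

/-- **(5)** : `T ∩ X` moves `V i` -/
theorem exists_mover {i : Fin 2} (hB : WOff T V i) (hV : ¬ V i ≤ NU V v i) {n : G} (c : Can T V v i n)
    (hm : ¬ GX D i n ≤ centralizer (NU V v i : Set G)) : ∃ s ∈ T, s ∈ GX D i n ∧ s ∉ o2 (P i) := by
  by_contra hcon
  push Not at hcon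
  set X := GX D i n with hX
  have hij := ne_add_one i
  have ho : o2 (P i) = T ⊓ centralizer (V i : Set G) := Phi.o2_P D i
  obtain ⟨e, he, he1, hev⟩ := D.exists_ne_v i
  have hXC := GX_le D i n
  have hXn := GX_normal D i n
  have hSC : o2 (P i) ≤ CC v i := by rw [ho]; exact inf_le_left.trans (D.T_le_C i)
  have hSX : o2 (P i) ≤ normalizer (X : Set G) := hSC.trans hXn
  -- the group `H = X S_2`
  set H := X ⊔ o2 (P i) with hH
  have hHC : H ≤ CC v i := sup_le hXC hSC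
  have hTH : T ⊓ H ≤ o2 (P i) := by
    rintro t ⟨ht, htH⟩
    obtain ⟨x, hx, s, hs, rfl⟩ := OM.KTwo.exists_mul_of_mem_sup hSX htH
    have hsT : s ∈ T := by rw [ho] at hs; exact hs.1
    have hxT : x ∈ T := by
      have e1 : x = x * s * s⁻¹ := by group
      rw [e1]
      exact T.mul_mem ht (T.inv_mem hsT)
    exact mul_mem (hcon x hxT hx) hs
  have hoH : o2 (P i) = T ⊓ H := by
    refine le_antisymm (le_inf ?_ le_sup_right) hTH
    rw [ho]; exact inf_le_left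
  have hodd : Odd ((o2 (P i)).relIndex H) := by
    rw [← Nat.not_even_iff_odd, even_iff_two_dvd]
    intro h2
    have h3 : (o2 (P i)).relIndex H = (o2 (P i)).relIndex X := relIndex_sup_norm hSX
    have h4 : T.relIndex (X ⊔ T) = T.relIndex X := relIndex_sup_norm ((D.T_le_C i).trans hXn)
    have h5 : (o2 (P i)).relIndex X = T.relIndex X := by
      rw [← inf_relIndex_right (o2 (P i)), ← inf_relIndex_right T]
      congr 1
      refine le_antisymm (le_inf (inf_le_left.trans ?_) inf_le_right) (le_inf ?_ inf_le_right)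
      · rw [ho]; exact inf_le_left
      · exact fun x hx => hcon x hx.1 hx.2
    refine syl_not_dvd (D.syl i) ?_
    rw [h3, h5, ← h4] at h2
    rw [← relIndex_mul_relIndex T (X ⊔ T) _ le_sup_right (sup_le hXC (D.T_le_C i))]
    exact h2.mul_right _
  have heC : e ∈ CC v i := D.T_le_C i (D.V_le_T i he)
  have hNn := D.C_le_N_N i
  have hse : ∀ s ∈ o2 (P i), s * e * s⁻¹ = e := fun s hs => o2_comm D hs he
  have heX : e ∈ XX V v i := D.V_le_X i he
  obtain ⟨y, hy, hyH⟩ := Cfsg.Agent.Omega.BTwo.Avg.avg (X := H) (P := o2 (P i)) (Y := NU V v i) (D := ⊥) (c := e)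
    le_sup_right hodd bot_le (fun x hx y hy => (mem_normalizer_iff.1 (hNn (hHC hx)) y).1 hy)
    (fun x _ y hy => by rw [mem_bot] at hy ⊢; rw [hy]; group)
    (fun x _ y hy => by rw [mem_bot] at hy ⊢; rw [hy]; group)
    (fun y hy => by rw [mem_bot, ← pow_two]; exact D.N_sq i y hy)
    (fun x hx => by
      obtain ⟨a, ha, s, hs, rfl⟩ := OM.KTwo.exists_mul_of_mem_sup hSX hx
      have e1 : e⁻¹ * (a * s) * e * (a * s)⁻¹ = e⁻¹ * (a * (s * e * s⁻¹) * a⁻¹ * e⁻¹) * e⁻¹⁻¹ := by group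
      rw [e1, hse s hs]
      exact (mem_normalizer_iff.1 (hNn (inv_mem heC)) _).1 (ha.2.2 e heX))
    (fun s hs => by
      rw [mem_bot]
      calc e⁻¹ * s * e * s⁻¹ = e⁻¹ * (s * e * s⁻¹) := by group
        _ = 1 := by rw [hse s hs, inv_mul_cancel])
  have hcomm : ∀ x ∈ H, x * (e * y) = e * y * x := by
    intro x hx
    have h1 := hyH x hx
    rw [mem_bot] at h1
    calc x * (e * y) = e * y * ((e * y)⁻¹ * x * (e * y) * x⁻¹) * x := by group
      _ = e * y * x := by rw [h1, mul_one]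
  have hey : e * y = y * e := mem_centralizer_iff.1 (D.N_le_cent_Q i hy) e (D.U_le_Q i he)
  have h1 : e * y ∈ zc (o2 (P i)) := by
    rw [ZN.mem_zc]
    refine ⟨mul_mem ?_ (Phi.N_le_o2 D i hy), fun t ht => hcomm t (mem_sup_right ht), ?_⟩
    · exact Phi.W_le_o2 D i (D.V_le_W i he)
    · rw [pow_two]
      calc e * y * (e * y) = e * (y * e) * y := by group
        _ = (e * e) * (y * y) := by rw [← hey]; group
        _ = 1 := by rw [← pow_two, ← pow_two, D.sqV i e he, D.N_sq i y hy, one_mul]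
  have hXey : e * y ∈ centralizer (X : Set G) := mem_centralizer_iff.2 fun x hx => hcomm x (mem_sup_left hx)
  obtain ⟨a, ha, h2 | h2⟩ := D.mem_zc_o2 hB hij h1
  · have haN : a ∉ NU V v i := by
      intro h3
      have h4 : e ∈ NU V v i := by
        have e1 : e = a * y⁻¹ := by rw [← h2]; group
        rw [e1]; exact mul_mem h3 (inv_mem hy)
      rcases mem_N_V D hV c.rad he h4 with h | h
      · exact he1 h
      · exact hev h
    have ha1 : a ≠ 1 := fun h => haN (h ▸ one_mem _)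
    have hav : a ≠ v i := fun h => haN (h ▸ c.rad)
    rw [h2] at hXey
    have hvX : v i ∈ centralizer (X : Set G) :=
      mem_centralizer_iff.2 fun x hx => mem_centralizer_singleton_iff.1 (hXC hx)
    have hVX : V i ≤ centralizer (X : Set G) := by
      intro x hx
      by_cases hx1 : x = 1
      · rw [hx1]; exact one_mem _
      rcases D.eq_of_V ha ha1 (D.mem i) (D.ne i) hav hx hx1 with h | h | h
      · rw [h]; exact hXey
      · rw [h]; exact hvX
      · rw [h]; exact mul_mem hXey hvX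
    have hWX : WU V v i ≤ centralizer (X : Set G) := by
      refine V_le fun c hc => ?_
      have h3 : MulAut.conj c • V i ≤ MulAut.conj c • centralizer (X : Set G) := conj_le_iff.2 hVX
      rwa [conj_eq_of_mem ((hXn.trans (nnc X)) hc)] at h3
    exact hm (D.cent_N_of_cent_W i hXC (comm_symm hWX))
  · rw [h2] at hXey
    exact hm (cent_N_of_av D hXn ha hXey)

/-- **(3)-(5)** of #21425, general form -/
theorem locF' (hML : ML.Final.MLK.{u, u}) (hK : ∀ i, IsKGroup (CC v i)) {i : Fin 2} (hB : WOff T V i)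
    (hV : ¬ V i ≤ NU V v i) : LocF T V v i := by
  intro n A L
  have hQV := L.four D hML hK hB hV
  have hQn : CC v i ≤ normalizer (QQ v i : Set G) := ZN.le_normalizer_o2 _
  have hQW : WU V v i ≤ centralizer (QQ v i : Set G) := by
    refine V_le fun c hc => ?_
    have h3 : MulAut.conj c • V i ≤ MulAut.conj c • centralizer (QQ v i : Set G) := conj_le_iff.2 (comm_symm hQV)
    rwa [conj_eq_of_mem ((hQn.trans (nnc (QQ v i))) hc)] at h3
  have hQX : QQ v i ≤ centralizer (XX V v i : Set G) :=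
    comm_symm (sup_le hQW (D.N_le_cent_Q i))
  have hfl : ∀ g, Fl V v i g → ∀ q ∈ QQ v i, q * (g * n * g⁻¹) = g * n * g⁻¹ * q := by
    intro g hg q hq
    obtain ⟨c, hc, p, hp, rfl⟩ := Fl_exists D hg
    have h1 : c⁻¹ * q * c ∈ QQ v i := (mem_normalizer_iff''.1 (hQn hc) q).1 hq
    have h2 := L.three D h1 (hQV h1) hp
    have h3 := congrArg (fun t => c * t * c⁻¹) h2
    have h4 : q * (c * p * n * (c * p)⁻¹) * q⁻¹ = c * p * n * (c * p)⁻¹ := by
      calc q * (c * p * n * (c * p)⁻¹) * q⁻¹ = c * (c⁻¹ * q * c * (p * n * p⁻¹) * (c⁻¹ * q * c)⁻¹) * c⁻¹ := by group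
        _ = c * p * n * (c * p)⁻¹ := by rw [h2]; group
    calc q * (c * p * n * (c * p)⁻¹) = q * (c * p * n * (c * p)⁻¹) * q⁻¹ * q := by group
      _ = _ := by rw [h4]
  have hA := L.five hfl hQX
  have hAX : A ≤ GX D i n := fun f hf => ⟨L.le hf, fun g hg => hA g hg f hf, fun x hx => L.aX f hf x hx⟩
  obtain ⟨s, hsT, hsX, hso⟩ := exists_mover D hB hV L.can fun h => L.mv (hAX.trans h)
  obtain ⟨e, he, he1, hev⟩ := D.exists_ne_v i
  obtain ⟨p, hp, -, hpe⟩ := D.tr (ne_add_one i) he he1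
  have hse := Phi.moves D hsT hso he he1 hev
  have hsP := D.T_le_P i hsT
  have hq : s * p * v i * (s * p)⁻¹ = e * v i := by
    rw [← hse, ← hpe]; group
  obtain ⟨t, ht, h1, h2⟩ := L.can.indep D hML hK hB hV hp (mul_mem hsP hp) (by
    rw [hpe, hq]
    intro h
    exact D.ne i (left_eq_mul.1 h))
  have h1' := (L.can.chi_o D hp ht).resolve_left h1
  rw [hpe] at h1'
  have htC : t ∈ CC v i := by
    rw [Phi.o2_P D i] at ht
    exact D.T_le_C i ht.1
  have h3 : s * (p * n * p⁻¹) * s⁻¹ * (p * n * p⁻¹)⁻¹ ∈ NU V v i := hsX.2.1 p (Fl_P D hp)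
  set δ := s * (p * n * p⁻¹) * s⁻¹ * (p * n * p⁻¹)⁻¹ with hδ
  have h4 : t * δ * t⁻¹ ∈ NU V v i := (mem_normalizer_iff.1 (D.C_le_N_N i htC) δ).1 h3
  have h5 : t * δ * t⁻¹ = s * (p * n * p⁻¹) * s⁻¹ * (p * n * p⁻¹ * e)⁻¹ := by
    calc t * δ * t⁻¹ = (t * (s * p * n * (s * p)⁻¹) * t⁻¹) * (t * (p * n * p⁻¹) * t⁻¹)⁻¹ := by rw [hδ]; group
      _ = s * (p * n * p⁻¹) * s⁻¹ * (p * n * p⁻¹ * e)⁻¹ := by rw [h2, h1']; group
  obtain ⟨-, h6⟩ := L.can.fl_mem D hML hK hV (Fl_P D hp)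
  have h7 := mem_centralizer_iff.1 h6 e (D.V_le_X i he)
  have h8 : e ∈ NU V v i := by
    have e1 : (t * δ * t⁻¹)⁻¹ * δ = e := by
      rw [h5, hδ]
      calc (s * (p * n * p⁻¹) * s⁻¹ * (p * n * p⁻¹ * e)⁻¹)⁻¹ * (s * (p * n * p⁻¹) * s⁻¹ * (p * n * p⁻¹)⁻¹) =
          p * n * p⁻¹ * e * (p * n * p⁻¹)⁻¹ := by group
        _ = e := by rw [← h7, mul_inv_cancel_right]
    rw [← e1]
    exact mul_mem (inv_mem h4) h3
  rcases mem_N_V D hV L.can.rad he h8 with h | h
  · exact he1 h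
  · exact hev h

/-- **(3)-(5)** of #21425 -/
theorem locF (hML : ML.Final.MLK.{u, u}) (hK : ∀ i, IsKGroup (CC v i)) (hB : VOff T) {i : Fin 2}
    (hV : ¬ V i ≤ NU V v i) : LocF T V v i := locF' D hML hK (D.woff hB i) hV

end fr

end Cfsg.Agent.Omega.TC.R
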