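import Cfsg.Agent.Omega.TC.R.Vec

/-!
# CARD #18791, THEOREM R (helper691 #21425): (1b) (helper674)

`A ∈ AA(O)`, `O = o2 (centralizer (zc T))`, moves `N_i`, `A_b := C_A(N_i)` centralises `W_i`:

* `aX_of` : `[X_i, A] ≤ N_i`; `can_of` : a canonical vector exists (`V i ≰ N_i` is not needed here);
* `Fl.le_W` : a flag on `v i` gives a line of `W_i`;
* `cent_vec` : `A_b` centralises the vector of every flag moved by `A` (otherwise `B := A_b N_i`, of maximal order, has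
  the subgroup `B ∩ C(n_y)` of index 2 and `(B ∩ C(n_y)) ⟨n_y, n_y ^ f⟩` is larger than `B`);
* `vec_of` : then `[n_y, A] ≤ N_i`; `loc_of` : the input of (3)-(5);
* **`oneB : ¬ V i ≤ NU V v i → LocF T V v i → OneB T V v i`**.
-/

set_option autoImplicit false
set_option linter.unusedSectionVars false

namespace Cfsg.Agent.Omega.TC.R

open Subgroup Cfsg Cfsg.Agent.ZN
open Cfsg.Agent.Omega.OM.KTwo (CC QQ WU NU EU FF ne_add_one le_normalizer_V le_V)
open Cfsg.Agent.Omega.NoFF.Basic (comm_symm Z_le_V V_le)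
open Cfsg.Agent.Omega.TC.ThmI (rel_le_two three_le_rel)
open Cfsg.Agent.Omega.NO3S.EThree.ExactA (eab_iff eab_mono)
open Cfsg.Agent.ZN.ChoiceBase (AA)
open scoped Pointwise

universe u

/-- the join of two commuting elementary abelian groups -/
theorem eab_sup {G : Type*} [Group G] [Finite G] {A B : Subgroup G} (hA : IsElementaryAbelian 2 A)
    (hB : IsElementaryAbelian 2 B) (h : A ≤ centralizer (B : Set G)) :
    IsElementaryAbelian 2 (A ⊔ B : Subgroup G) := by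
  rw [eab_iff] at *
  have hc : A ⊔ B ≤ centralizer ((A ⊔ B : Subgroup G) : Set G) :=
    sup_le (comm_symm (sup_le hA.1 (comm_symm h))) (comm_symm (sup_le h hB.1))
  refine ⟨hc, ?_⟩
  intro x hx
  obtain ⟨a, ha, b, hb, rfl⟩ := OM.PG.Peel.exists_mul_of_comm h hx
  have h1 : a * b = b * a := (mem_centralizer_iff.1 (h ha) b hb).symm
  calc (a * b) ^ 2 = a * (b * a) * b := by rw [pow_two]; group
    _ = a ^ 2 * b ^ 2 := by rw [← h1, pow_two, pow_two]; group
    _ = 1 := by rw [hA.2 a ha, hB.2 b hb, one_mul]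

theorem zpowers_eq_or {G : Type*} [Group G] {m : G} (hm : m * m = 1) {x : G} (hx : x ∈ zpowers m) :
    x = 1 ∨ x = m := by
  obtain ⟨k, rfl⟩ := mem_zpowers_iff.1 hx
  have h2 : m ^ (2 : ℤ) = 1 := by
    have : m ^ 2 = 1 := by rw [pow_two, hm]
    exact_mod_cast this
  rcases Int.even_or_odd' k with ⟨j, hj | hj⟩
  · left; rw [hj, zpow_mul, h2, one_zpow]
  · right; rw [hj, zpow_add, zpow_mul, h2, one_zpow, one_mul, zpow_one]

theorem eab_zpowers {G : Type*} [Group G] {m : G} (hm : m * m = 1) : IsElementaryAbelian 2 (zpowers m) := by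
  rw [eab_iff]
  refine ⟨fun x hx => mem_centralizer_iff.2 fun y hy => ?_, fun x hx => ?_⟩
  · rcases zpowers_eq_or hm hx with h | h <;> rcases zpowers_eq_or hm hy with h' | h' <;> rw [h, h'] <;> simp
  · rcases zpowers_eq_or hm hx with h | h
    · rw [h, one_pow]
    · rw [h, pow_two, hm]

theorem le_cent_zpowers {G : Type*} [Group G] {A : Subgroup G} {m : G} (h : ∀ a ∈ A, a * m = m * a) :
    A ≤ centralizer ((zpowers m : Subgroup G) : Set G) := by
  intro a ha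
  rw [mem_centralizer_iff]
  rintro _ ⟨k, rfl⟩
  have h1 : Commute m a := (h a ha).symm
  exact (h1.zpow_left k).eq

variable {G : Type u} [Group G] [Finite G] {T : Subgroup G} {V P : Fin 2 → Subgroup G} {v : Fin 2 → G}

section fr

variable (D : Fr T V P v)

include D

theorem oD_le_C (i : Fin 2) : o2 (centralizer (zc T : Set G)) ≤ CC v i := D.o2D_le_T.trans (D.T_le_C i)

/-- the line of a flag on `v i` is in `W_i` -/
theorem Fl.le_W {i : Fin 2} {g : G} (hg : Fl V v i g) : (MulAut.conj g • V i : Subgroup G) ≤ WU V v i := by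
  have h1 : g⁻¹ * v i * g ≠ 1 := by
    intro h
    apply D.ne i
    calc v i = g * (g⁻¹ * v i * g) * g⁻¹ := by group
      _ = 1 := by rw [h]; group
  obtain ⟨p, hp, -, hpx⟩ := D.tr (ne_add_one i) hg h1
  have hc : g * p ∈ CC v i := by
    rw [mem_centralizer_singleton_iff]
    calc g * p * v i = g * (p * v i * p⁻¹) * p := by group
      _ = v i * (g * p) := by rw [hpx]; group
  have h2 : (MulAut.conj g • V i : Subgroup G) = MulAut.conj (g * p) • V i := by
    rw [map_mul, mul_smul, NOThreeL.Pair.conj_eq_of_mem (D.PN i i hp)]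
  rw [h2]
  exact Z_le_V hc

theorem Fl.mem_W {i : Fin 2} {g : G} (hg : Fl V v i g) : g * v i * g⁻¹ ∈ WU V v i :=
  Fl.le_W D hg ⟨v i, D.mem i, rfl⟩

/-- flags are moved by `C_i` -/
theorem Fl.mul {i : Fin 2} {g f : G} (hg : Fl V v i g) (hf : f ∈ CC v i) : Fl V v i (f * g) := by
  unfold Fl at *
  have h1 : f⁻¹ * v i * f = v i := by
    have := D.conj_v i (inv_mem hf)
    rwa [inv_inv] at this
  have h2 : (f * g)⁻¹ * v i * (f * g) = g⁻¹ * (f⁻¹ * v i * f) * g := by group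
  rw [h2, h1]
  exact hg

/-- `C_A(N_i)`, `A ∈ AA(O)`: `|A : C_A(N_i)| ≤ |N_i : C_{N_i}(A)|` -/
theorem rel_le (hML : ML.Final.MLK.{u, u}) {i : Fin 2} (hK : IsKGroup (CC v i)) {A : Subgroup G}
    (hA : A ∈ AA (o2 (centralizer (zc T : Set G)))) :
    (A ⊓ centralizer (NU V v i : Set G)).relIndex A ≤ (centralizer (A : Set G)).relIndex (NU V v i) := by
  rw [inf_relIndex_left]
  exact D.no_N hML hK hA.2.1 hA.1.2

/-- `C_A(N_i)` centralises `Y`, `N_i ≤ Y ≤ O`: `[Y, A] ≤ N_i` -/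
theorem comm_of (hML : ML.Final.MLK.{u, u}) {i : Fin 2} (hK : IsKGroup (CC v i)) {A Y : Subgroup G}
    (hA : A ∈ AA (o2 (centralizer (zc T : Set G)))) (hNY : NU V v i ≤ Y) (hYe : IsElementaryAbelian 2 Y)
    (hYO : Y ≤ o2 (centralizer (zc T : Set G))) (hc : A ⊓ centralizer (NU V v i : Set G) ≤ centralizer (Y : Set G)) :
    ∀ y ∈ Y, ∀ a ∈ A, a * y * a⁻¹ * y⁻¹ ∈ NU V v i := by
  refine absorb hNY (eab_iff.1 hYe).1 ((hA.2.1.trans (oD_le_C D i)).trans (D.C_le_N_N i)) ?_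
  exact (rel_le_of_max hA.1 inf_le_left hYe hc (inf_le_left.trans hA.2.1) hYO hA.2.2).trans (rel_le D hML hK hA)

theorem aX_of (hML : ML.Final.MLK.{u, u}) {i : Fin 2} (hK : IsKGroup (CC v i)) {A : Subgroup G}
    (hA : A ∈ AA (o2 (centralizer (zc T : Set G))))
    (hW : A ⊓ centralizer (NU V v i : Set G) ≤ centralizer (WU V v i : Set G)) :
    ∀ a ∈ A, ∀ x ∈ XX V v i, a * x * a⁻¹ * x⁻¹ ∈ NU V v i := by
  have h1 : A ⊓ centralizer (NU V v i : Set G) ≤ centralizer (XX V v i : Set G) :=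
    comm_symm (sup_le (comm_symm hW) (comm_symm inf_le_right))
  exact fun a ha x hx =>
    comm_of D hML hK hA (D.N_le_X i) (D.X_eab i) ((D.X_le_Q i).trans (D.Q_le_o2D i)) h1 x hx a ha

/-- a canonical vector -/
theorem can_of {i : Fin 2} {A : Subgroup G} (hAC : A ≤ CC v i)
    (hX : ∀ a ∈ A, ∀ x ∈ XX V v i, a * x * a⁻¹ * x⁻¹ ∈ NU V v i) (hm : ¬ A ≤ centralizer (NU V v i : Set G)) :
    ∃ n, Can T V v i n := by
  let K : Subgroup G :=
    { carrier := {r | r ∈ CC v i ∧ ∀ x ∈ XX V v i, r * x * r⁻¹ * x⁻¹ ∈ NU V v i}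
      one_mem' := ⟨one_mem _, fun x _ => by simp⟩
      mul_mem' := by
        rintro a b ⟨ha, ha'⟩ ⟨hb, hb'⟩
        refine ⟨mul_mem ha hb, fun x hx => ?_⟩
        have e : a * b * x * (a * b)⁻¹ * x⁻¹ = (a * (b * x * b⁻¹ * x⁻¹) * a⁻¹) * (a * x * a⁻¹ * x⁻¹) := by group
        rw [e]
        exact mul_mem ((mem_normalizer_iff.1 (D.C_le_N_N i ha) _).1 (hb' x hx)) (ha' x hx)
      inv_mem' := by
        rintro a ⟨ha, ha'⟩
        refine ⟨inv_mem ha, fun x hx => ?_⟩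
        have e : a⁻¹ * x * a⁻¹⁻¹ * x⁻¹ = a⁻¹ * (a * x * a⁻¹ * x⁻¹)⁻¹ * a⁻¹⁻¹ := by group
        rw [e]
        exact (mem_normalizer_iff.1 (D.C_le_N_N i (inv_mem ha)) _).1 (inv_mem (ha' x hx)) }
  have hRK : NoFF.Basic.V A (CC v i) ≤ K := by
    refine V_le fun c hc => ?_
    rintro _ ⟨r, hr, rfl⟩
    change c * r * c⁻¹ ∈ K
    refine ⟨mul_mem (mul_mem hc (hAC hr)) (inv_mem hc), fun x hx => ?_⟩
    have h1 : c⁻¹ * x * c ∈ XX V v i := (mem_normalizer_iff''.1 (D.C_le_N_X i hc) x).1 hx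
    have e : c * r * c⁻¹ * x * (c * r * c⁻¹)⁻¹ * x⁻¹ = c * (r * (c⁻¹ * x * c) * r⁻¹ * (c⁻¹ * x * c)⁻¹) * c⁻¹ := by
      group
    rw [e]
    exact (mem_normalizer_iff.1 (D.C_le_N_N i hc) _).1 (hX r hr _ h1)
  refine exists_can D (i := i) (R := NoFF.Basic.V A (CC v i)) (fun r hr => (hRK hr).1) (le_normalizer_V _ _)
    (fun r hr x hx => (hRK hr).2 x (D.V_le_X i hx)) fun h => hm ((le_V _ _).trans h)

/-- `C_A(N_i)` centralises `m ∈ C_{Q_i}(X_i)`: `[m, A] ≤ N_i` -/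
theorem vec_of (hML : ML.Final.MLK.{u, u}) {i : Fin 2} (hK : IsKGroup (CC v i)) {A : Subgroup G}
    (hA : A ∈ AA (o2 (centralizer (zc T : Set G))))
    (hW : A ⊓ centralizer (NU V v i : Set G) ≤ centralizer (WU V v i : Set G)) {m : G} (hmQ : m ∈ QQ v i)
    (hmX : m ∈ centralizer (XX V v i : Set G)) (hm2 : m * m = 1)
    (hAm : ∀ a ∈ A ⊓ centralizer (NU V v i : Set G), a * m = m * a) :
    ∀ f ∈ A, f * m * f⁻¹ * m⁻¹ ∈ NU V v i := by
  have hXm : XX V v i ≤ centralizer ((zpowers m : Subgroup G) : Set G) :=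
    le_cent_zpowers fun x hx => mem_centralizer_iff.1 hmX x hx
  have h1 : A ⊓ centralizer (NU V v i : Set G) ≤ centralizer ((XX V v i ⊔ zpowers m : Subgroup G) : Set G) :=
    comm_symm (sup_le (sup_le (comm_symm hW) (comm_symm inf_le_right)) (comm_symm (le_cent_zpowers hAm)))
  intro f hf
  exact comm_of D hML hK hA ((D.N_le_X i).trans le_sup_left) (eab_sup (D.X_eab i) (eab_zpowers hm2) hXm)
    (sup_le ((D.X_le_Q i).trans (D.Q_le_o2D i)) (zpowers_le.2 (D.Q_le_o2D i hmQ))) h1 m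
    (mem_sup_right (mem_zpowers m)) f hf

/-- **`C_A(N_i)` centralises the vector of every flag moved by `A`** -/
theorem cent_vec (hML : ML.Final.MLK.{u, u}) {i : Fin 2} (hK : IsKGroup (CC v i)) {n : G} (c : Can T V v i n)
    {A : Subgroup G} (hA : A ∈ AA (o2 (centralizer (zc T : Set G))))
    (hW : A ⊓ centralizer (NU V v i : Set G) ≤ centralizer (WU V v i : Set G))
    (hmem : ∀ g, Fl V v i g → g * n * g⁻¹ ∈ QQ v i ∧ g * n * g⁻¹ ∈ centralizer (XX V v i : Set G))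
    (hcomm : ∀ g h, Fl V v i g → Fl V v i h → g * n * g⁻¹ * (h * n * h⁻¹) = h * n * h⁻¹ * (g * n * g⁻¹))
    {g f : G} (hg : Fl V v i g) (hf : f ∈ A) (hmv : f * (g * v i * g⁻¹) * f⁻¹ ≠ g * v i * g⁻¹) :
    ∀ a ∈ A ⊓ centralizer (NU V v i : Set G), a * (g * n * g⁻¹) = g * n * g⁻¹ * a := by
  by_contra hcon
  push Not at hcon
  obtain ⟨c0, hc0, hcm⟩ := hcon
  set O := o2 (centralizer (zc T : Set G)) with hO
  set N := NU V v i with hN
  set A₁ := A ⊓ centralizer (N : Set G) with hA₁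
  set m := g * n * g⁻¹ with hm
  set y := g * v i * g⁻¹ with hy
  have hA2 := eab_iff.1 hA.1
  have hfC : f ∈ CC v i := oD_le_C D i (hA.2.1 hf)
  have hfg : Fl V v i (f * g) := Fl.mul D hg hfC
  set m' := f * m * f⁻¹ with hm'
  set y' := f * y * f⁻¹ with hy'
  have em' : f * g * n * (f * g)⁻¹ = m' := by rw [hm', hm]; group
  obtain ⟨hmQ, hmX⟩ := hmem g hg
  obtain ⟨hmQ', hmX'⟩ := hmem _ hfg
  rw [em'] at hmQ' hmX'
  have hmm : m * m = 1 := by
    calc m * m = g * (n * n) * g⁻¹ := by rw [hm]; group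
      _ = 1 := by rw [c.sq D]; group
  have hmm' : m' * m' = 1 := by
    calc m' * m' = f * (m * m) * f⁻¹ := by rw [hm']; group
      _ = 1 := by rw [hmm]; group
  have hcomm' : m * m' = m' * m := by
    have := hcomm g (f * g) hg hfg
    rwa [em'] at this
  have hyy : y * y = 1 := by
    calc y * y = g * (v i * v i) * g⁻¹ := by rw [hy]; group
      _ = 1 := by rw [D.v_sq i]; group
  -- `B = A₁ N`
  set B := A₁ ⊔ N with hB
  have hNX : N ≤ XX V v i := D.N_le_X i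
  have hWX : WU V v i ≤ XX V v i := le_sup_left
  have hA₁N : A₁ ≤ centralizer (N : Set G) := inf_le_right
  have hNe : IsElementaryAbelian 2 N := eab_mono (D.X_eab i) hNX
  have hBe : IsElementaryAbelian 2 B := eab_sup (eab_mono hA.1 inf_le_left) hNe hA₁N
  have hBO : B ≤ O := sup_le (inf_le_left.trans hA.2.1) (D.N_le_oD i)
  have hyW : y ∈ WU V v i := Fl.mem_W D hg
  -- `B` centralises the line
  have hBl : B ≤ centralizer (WU V v i : Set G) :=
    sup_le hW (hNX.trans ((D.X_comm i).trans (centralizer_le hWX)))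
  have hchi : ∀ x ∈ B, x * m * x⁻¹ = m ∨ x * m * x⁻¹ = m * y := fun x hx =>
    c.chi D g (centralizer_le (Fl.le_W D hg) (hBl hx))
  have hBy : ∀ x ∈ B, x * y * x⁻¹ = y := fun x hx => by
    rw [← mem_centralizer_iff.1 (hBl hx) y hyW, mul_inv_cancel_right]
  -- order of `B`
  have hAB : Nat.card A ≤ Nat.card B := by
    have h1 : Nat.card A₁ * A₁.relIndex A = Nat.card A := card_rel inf_le_left
    have h2 : Nat.card A₁ * A₁.relIndex B = Nat.card B := card_rel le_sup_left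
    rw [← h1, ← h2]
    refine Nat.mul_le_mul_left _ ((rel_le D hML hK hA).trans ?_)
    refine le_trans ?_ (relIndex_le_of_le_right (le_sup_right : N ≤ B) index_ne_zero_of_finite)
    have h3 : N ⊓ A₁ ≤ centralizer (A : Set G) := inf_le_right.trans (inf_le_left.trans hA2.1)
    rw [← inf_relIndex_left N A₁, ← inf_relIndex_left N (centralizer (A : Set G))]
    exact relIndex_le_of_le_left (le_inf inf_le_left h3) index_ne_zero_of_finite
  -- `B₁`
  set B₁ := B ⊓ centralizer ({m} : Set G) with hB₁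
  have hB₁B : B₁ ≤ B := inf_le_left
  have hmem₁ : ∀ x, x ∈ B₁ ↔ x ∈ B ∧ x * m = m * x := fun x => by
    rw [hB₁, mem_inf, mem_centralizer_singleton_iff]
  have h2 : B₁.relIndex B ≤ 2 := by
    refine rel_le_two fun x hx z hz hxn hzn => (hmem₁ _).2 ⟨mul_mem hx hz, ?_⟩
    have hx1 : x * m * x⁻¹ = m * y := (hchi x hx).resolve_left fun h =>
      hxn ((hmem₁ x).2 ⟨hx, by rw [mul_inv_eq_iff_eq_mul] at h; exact h⟩)
    have hz1 : z * m * z⁻¹ = m * y := (hchi z hz).resolve_left fun h =>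
      hzn ((hmem₁ z).2 ⟨hz, by rw [mul_inv_eq_iff_eq_mul] at h; exact h⟩)
    have h3 : x * z * m * (x * z)⁻¹ = m := by
      calc x * z * m * (x * z)⁻¹ = x * (z * m * z⁻¹) * x⁻¹ := by group
        _ = (x * m * x⁻¹) * (x * y * x⁻¹) := by rw [hz1]; group
        _ = m * (y * y) := by rw [hx1, hBy x hx]; group
        _ = m := by rw [hyy, mul_one]
    rw [mul_inv_eq_iff_eq_mul] at h3
    exact h3
  -- `B₁` centralises `m'`
  have hNm : ∀ k ∈ N, k * m = m * k := fun k hk => mem_centralizer_iff.1 hmX k (hNX hk)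
  have hNm' : ∀ k ∈ N, k * m' = m' * k := fun k hk => mem_centralizer_iff.1 hmX' k (hNX hk)
  have hAf : ∀ a ∈ A₁, a * f = f * a := fun a ha => (mem_centralizer_iff.1 (hA2.1 ha.1) f hf).symm
  have hA₁m' : ∀ a ∈ A₁, a * m' * a⁻¹ = f * (a * m * a⁻¹) * f⁻¹ := by
    intro a ha
    have h1 := hAf a ha
    have h2 : f⁻¹ * a⁻¹ = a⁻¹ * f⁻¹ := by rw [← mul_inv_rev, h1, mul_inv_rev]
    calc a * m' * a⁻¹ = (a * f) * m * (f⁻¹ * a⁻¹) := by rw [hm']; group
      _ = (f * a) * m * (a⁻¹ * f⁻¹) := by rw [h1, h2]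
      _ = f * (a * m * a⁻¹) * f⁻¹ := by group
  have hB₁m' : ∀ x ∈ B₁, x * m' = m' * x := by
    intro x hx
    obtain ⟨hxB, hxm⟩ := (hmem₁ x).1 hx
    obtain ⟨a, ha, k, hk, rfl⟩ := OM.PG.Peel.exists_mul_of_comm hA₁N hxB
    have h3 : a * m = m * a := by
      have h4 : a * m * k = m * a * k :=
        calc a * m * k = a * (m * k) := mul_assoc _ _ _
          _ = a * (k * m) := by rw [hNm k hk]
          _ = a * k * m := (mul_assoc _ _ _).symm
          _ = m * (a * k) := hxm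
          _ = m * a * k := (mul_assoc _ _ _).symm
      exact mul_right_cancel h4
    have h5 : a * m' * a⁻¹ = m' := by
      rw [hA₁m' a ha, h3, mul_inv_cancel_right]
    rw [mul_inv_eq_iff_eq_mul] at h5
    rw [mul_assoc, hNm' k hk, ← mul_assoc, h5, mul_assoc]
  -- `E`
  set E := B₁ ⊔ (zpowers m ⊔ zpowers m') with hE
  have hzz : IsElementaryAbelian 2 (zpowers m ⊔ zpowers m' : Subgroup G) := by
    refine eab_sup (eab_zpowers hmm) (eab_zpowers hmm') (le_cent_zpowers fun x hx => ?_)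
    rcases zpowers_eq_or hmm hx with h | h
    · rw [h, one_mul, mul_one]
    · rw [h]; exact hcomm'
  have hEe : IsElementaryAbelian 2 E := by
    refine eab_sup (eab_mono hBe hB₁B) hzz (comm_symm (sup_le ?_ ?_))
    · exact comm_symm (le_cent_zpowers fun x hx => ((hmem₁ x).1 hx).2)
    · exact comm_symm (le_cent_zpowers fun x hx => hB₁m' x hx)
  have hEO : E ≤ O := sup_le (hB₁B.trans hBO)
    (sup_le (zpowers_le.2 (D.Q_le_o2D i hmQ)) (zpowers_le.2 (D.Q_le_o2D i hmQ')))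
  -- `c0`
  have hc0B : c0 ∈ B := mem_sup_left hc0
  have hc0m : c0 * m * c0⁻¹ = m * y := (hchi c0 hc0B).resolve_left fun h => hcm (by
    rw [mul_inv_eq_iff_eq_mul] at h; exact h)
  have hc0m' : c0 * m' * c0⁻¹ = m' * y' := by
    rw [hA₁m' c0 hc0, hc0m, hm', hy']; group
  have hcB₁ : ∀ x ∈ B₁, c0 * x * c0⁻¹ = x := fun x hx => by
    rw [← mem_centralizer_iff.1 ((eab_iff.1 hBe).1 hc0B) x (hB₁B hx), mul_inv_cancel_right]
  have hy1 : y ≠ 1 := by
    intro h
    apply D.ne i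
    calc v i = g⁻¹ * y * g := by rw [hy]; group
      _ = 1 := by rw [h]; group
  have k1 : m ∉ B₁ := by
    intro h
    have h3 := hcB₁ m h
    rw [hc0m] at h3
    exact hy1 (mul_eq_left.1 h3)
  have k2 : m' ∉ B₁ := by
    intro h
    have h3 := hcB₁ m' h
    rw [hc0m'] at h3
    have h4 : y' = 1 := mul_eq_left.1 h3
    apply hy1
    calc y = f⁻¹ * y' * f := by rw [hy']; group
      _ = 1 := by rw [h4]; group
  have k3 : m * m' ∉ B₁ := by
    intro h
    have h3 := hcB₁ _ h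
    have h4 : c0 * (m * m') * c0⁻¹ = (c0 * m * c0⁻¹) * (c0 * m' * c0⁻¹) := by group
    have h5 : y * m' = m' * y := mem_centralizer_iff.1 hmX' y (hWX hyW)
    rw [h4, hc0m, hc0m'] at h3
    have h6 : m * y * (m' * y') = m * m' * (y * y') := by
      calc m * y * (m' * y') = m * (y * m') * y' := by group
        _ = m * m' * (y * y') := by rw [h5]; group
    rw [h6] at h3
    have h7 : y * y' = 1 := mul_eq_left.1 h3
    exact hmv (mul_left_cancel (h7.trans hyy.symm))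
  have hmE : m ∈ E := mem_sup_right (mem_sup_left (mem_zpowers m))
  have hmE' : m' ∈ E := mem_sup_right (mem_sup_right (mem_zpowers m'))
  have h3 : 3 ≤ B₁.relIndex E := three_le_rel hmE hmE' k1 k2 k3
  have h4 : Nat.card B₁ * B₁.relIndex B = Nat.card B := card_rel hB₁B
  have h5 : Nat.card B₁ * B₁.relIndex E = Nat.card E := card_rel le_sup_left
  have h6 : Nat.card E ≤ Nat.card A := hA.2.2 E hEe hEO
  have h7 : 0 < Nat.card B₁ := Nat.card_pos
  have h8 : Nat.card B₁ * 3 ≤ Nat.card B₁ * 2 := by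
    calc Nat.card B₁ * 3 ≤ Nat.card B₁ * B₁.relIndex E := Nat.mul_le_mul_left _ h3
      _ = Nat.card E := h5
      _ ≤ Nat.card B := h6.trans hAB
      _ = Nat.card B₁ * B₁.relIndex B := h4.symm
      _ ≤ Nat.card B₁ * 2 := Nat.mul_le_mul_left _ h2
  omega

/-- the input of (3)-(5) -/
theorem loc_of (hML : ML.Final.MLK.{u, u}) {i : Fin 2} (hK : IsKGroup (CC v i)) {n : G} (c : Can T V v i n)
    {A : Subgroup G} (hA : A ∈ AA (o2 (centralizer (zc T : Set G))))
    (hW : A ⊓ centralizer (NU V v i : Set G) ≤ centralizer (WU V v i : Set G))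
    (hm : ¬ A ≤ centralizer (NU V v i : Set G))
    (hmem : ∀ g, Fl V v i g → g * n * g⁻¹ ∈ QQ v i ∧ g * n * g⁻¹ ∈ centralizer (XX V v i : Set G))
    (hcomm : ∀ g h, Fl V v i g → Fl V v i h → g * n * g⁻¹ * (h * n * h⁻¹) = h * n * h⁻¹ * (g * n * g⁻¹)) :
    Loc T V v i n A where
  can := c
  le := hA.2.1.trans (oD_le_C D i)
  aX := aX_of D hML hK hA hW
  mv := hm
  two := fun g hg f hf hmv => by
    have h1 : g * n * g⁻¹ * (g * n * g⁻¹) = 1 := by
      calc g * n * g⁻¹ * (g * n * g⁻¹) = g * (n * n) * g⁻¹ := by group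
        _ = 1 := by rw [c.sq D]; group
    exact vec_of D hML hK hA hW (hmem g hg).1 (hmem g hg).2 h1
      (cent_vec D hML hK c hA hW hmem hcomm hg hf hmv) f hf
  five := fun hQ _ g hg f hf => by
    have h1 : g * n * g⁻¹ * (g * n * g⁻¹) = 1 := by
      calc g * n * g⁻¹ * (g * n * g⁻¹) = g * (n * n) * g⁻¹ := by group
        _ = 1 := by rw [c.sq D]; group
    refine vec_of D hML hK hA hW (hmem g hg).1 (hmem g hg).2 h1 (fun a ha => ?_) f hf
    exact hQ g hg a (D.f3 i ⟨hA.2.1 ha.1, ha.2⟩)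

/-- (1b), the facts (0.4) as hypotheses -/
theorem oneB_of_vec (hML : ML.Final.MLK.{u, u}) {i : Fin 2} (hK : IsKGroup (CC v i)) (hL : LocF T V v i)
    (hmem : ∀ n, Can T V v i n → ∀ g, Fl V v i g →
      g * n * g⁻¹ ∈ QQ v i ∧ g * n * g⁻¹ ∈ centralizer (XX V v i : Set G))
    (hcomm : ∀ n, Can T V v i n → ∀ g h, Fl V v i g → Fl V v i h →
      g * n * g⁻¹ * (h * n * h⁻¹) = h * n * h⁻¹ * (g * n * g⁻¹)) : OneB T V v i := by
  intro A hA hm hW
  obtain ⟨n, c⟩ := can_of D (hA.2.1.trans (oD_le_C D i)) (aX_of D hML hK hA hW) hm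
  exact hL n A (loc_of D hML hK c hA hW hm (hmem n c) (hcomm n c))

/-- **(1b)** -/
theorem oneB (hML : ML.Final.MLK.{u, u}) (hK : ∀ i, IsKGroup (CC v i)) {i : Fin 2} (hV : ¬ V i ≤ NU V v i)
    (hL : LocF T V v i) : OneB T V v i :=
  oneB_of_vec D hML (hK i) hL (fun _ c _ hg => c.fl_mem D hML hK hV hg) fun _ c _ _ hg hh => c.fl_comm D hML hK hV hg hh

end fr

end Cfsg.Agent.Omega.TC.R
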