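import Cfsg.Agent.Omega.TC.RSix.Six
import Cfsg.Agent.Omega.TC.R.Local
import Cfsg.Agent.Omega.TC.R.OneB

/-!
# CARD #18791: THEOREM R (helper691 #21425), no swap, no LEMMA FIX, no levels, no THEOREM KL

* **`Fr.thmR`** : `V i ≰ N_i` for both `i` is impossible if `WOff T V i` for both `i`;
* `Fr.thmR_voff` : the same from (V!) (`VOff T`);
* `Fr.thmR_J` : the same if `J(O)` moves both `V i`, `O = O₂(C(Ω₁Z(T)))` (helper609 #23569 (3)).
-/

set_option autoImplicit false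

namespace Cfsg.Agent.Omega.TC

open Subgroup Cfsg Cfsg.Agent.ZN
open Cfsg.Agent.Omega.OM.KTwo (CC QQ WU NU EU)
open Cfsg.Agent.ZN.ChoiceBase (AA)

universe u

namespace Fr

variable {G : Type u} [Group G] [Finite G] {T : Subgroup G} {V P : Fin 2 → Subgroup G} {v : Fin 2 → G}

/-- **(1b)** of #21425 -/
theorem oneB (D : Fr T V P v) (hML : ML.Final.MLK.{u, u}) (hK : ∀ i, IsKGroup (CC v i)) {i : Fin 2}
    (hW : WOff T V i) (hV : ¬ V i ≤ NU V v i) : R.OneB T V v i :=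
  R.oneB D hML hK hV (R.locF' D hML hK hW hV)

/-- **THEOREM R** -/
theorem thmR (D : Fr T V P v) (hML : ML.Final.MLK.{u, u}) (hK : ∀ i, IsKGroup (CC v i)) (hW : ∀ i, WOff T V i)
    (hV : ∀ i, ¬ V i ≤ NU V v i) : False :=
  RSix.six' D hML hK hV fun i => D.oneB hML hK (hW i) (hV i)

/-- **THEOREM R** from (V!) -/
theorem thmR_voff (D : Fr T V P v) (hML : ML.Final.MLK.{u, u}) (hK : ∀ i, IsKGroup (CC v i)) (hB : VOff T)
    (hV : ∀ i, ¬ V i ≤ NU V v i) : False :=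
  D.thmR hML hK (fun i => D.woff hB i) hV

/-- **THEOREM R** from "`J(O)` moves both `V i`" -/
theorem thmR_J (D : Fr T V P v) (hML : ML.Final.MLK.{u, u}) (hK : ∀ i, IsKGroup (CC v i))
    (hJ : ∀ i, ∃ A ∈ AA (o2 (centralizer (zc T : Set G))), ¬ A ≤ centralizer (V i : Set G))
    (hV : ∀ i, ¬ V i ≤ NU V v i) : False :=
  D.thmR hML hK (fun i => by
    obtain ⟨A, hA, hm⟩ := hJ i
    exact D.woff_of_AA hA hm) hV

end Fr

end Cfsg.Agent.Omega.TC
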