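import Cfsg.Agent.Omega.TC.R.OneB
import Cfsg.Agent.Omega.TC.R.Local

/-!
# CARD #18791, THEOREM R (helper691 #21425): (1b) from (V!) (helper349, helper674)
-/

set_option autoImplicit false

namespace Cfsg.Agent.Omega.TC.R

open Subgroup Cfsg Cfsg.Agent.ZN
open Cfsg.Agent.Omega.OM.KTwo (CC QQ WU NU EU)

universe u

variable {G : Type u} [Group G] [Finite G] {T : Subgroup G} {V P : Fin 2 → Subgroup G} {v : Fin 2 → G}

/-- **(1b)**: `V i ≰ N_i`, `A ∈ AA(O)` moves `N_i` ⇒ `C_A(N_i)` moves `W_i` -/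
theorem oneB_main (D : Fr T V P v) (hML : ML.Final.MLK.{u, u}) (hK : ∀ i, IsKGroup (CC v i)) (hB : VOff T)
    {i : Fin 2} (hV : ¬ V i ≤ NU V v i) : OneB T V v i :=
  oneB D hML hK hV (locF D hML hK hB hV)

end Cfsg.Agent.Omega.TC.R
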