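import Cfsg.Agent.Omega.TC.R.Main
import Cfsg.Agent.Omega.TC.EFrOf

/-!
# THEOREM R as input of `TC.EFrOf` (all stages of (MT)), without THEOREM KL

* `rIn : MLK → RIn`; `eFr_of_kl' : MLK → NoInp → EFr K`.
-/

set_option autoImplicit false

namespace Cfsg.Agent.Omega.TC.R

open Subgroup Cfsg Cfsg.Agent.ZN

universe u

theorem rIn (hML : ML.Final.MLK.{u, u}) : RIn.{u} := by
  intro G _ _ hK T V P v D hV _ _ _ hN
  exact D.thmR_voff hML (kC_of D hK) (VBang.voff hV) hN

end Cfsg.Agent.Omega.TC.R
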