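import Cfsg.Agent.Omega.TC.R.Def
import Cfsg.Agent.Omega.TC.ExBoth
import Cfsg.Agent.Omega.TC.ThmIFr

/-!
# CARD #18791, THEOREM R (helper691 #21425), (6.1), (6.2)

* `mv_of` : `OneB` at `i`, a member of `AA O₂(D)` moves `N_i`: a member of `AA (Q_i)` moves `V i`;
* `exists_mv` : **(6.1)** `OneB` for both `i`: for both `i` a member of `AA (Q_i)` moves `V i`;
* `inter` : **(6.2)** `E_0 ∩ E_1 ≤ Ω₁Z(T)`.
-/

set_option autoImplicit false
set_option linter.unusedSectionVars false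

namespace Cfsg.Agent.Omega.TC.R

open Subgroup Cfsg Cfsg.Agent.ZN Cfsg.Agent.Omega.TC.ExBoth
open Cfsg.Agent.Omega.OM.KTwo (CC QQ WU NU EU ne_add_one eq_add_one add_one_add_one)
open Cfsg.Agent.ZN.ChoiceBase (AA cj cj_centralizer cj_mem_AA AA_nonempty mem_normalizer_of_cj_le cj_le_iff)
open Cfsg.Agent.Omega.NoFF.Basic (conj_le_iff conj_conj comm_symm V_le)
open Cfsg.Agent.MinSimple.VModule (o2_isPGroup)
open scoped Pointwise

universe u

variable {G : Type u} [Group G] [Finite G] {T : Subgroup G} {V P : Fin 2 → Subgroup G} {v : Fin 2 → G}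
  (D : Fr T V P v) (hML : ML.Final.MLK.{u, u}) (hK : ∀ i, IsKGroup (CC v i))

include D hML hK

theorem mv_of {i : Fin 2} (hB : OneB T V v i) {A : Subgroup G} (hA : A ∈ AA (o2 (centralizer (zc T : Set G))))
    (hm : ¬ A ≤ centralizer (NU V v i : Set G)) : ∃ A' ∈ AA (QQ v i), ¬ A' ≤ centralizer (V i : Set G) := by
  have h1 := sharp_mem D hML hK i hA
  set A' : Subgroup G := (A ⊓ centralizer (NU V v i : Set G)) ⊔ NU V v i with hA'
  have h2 : ¬ A' ≤ centralizer (WU V v i : Set G) := fun h => hB A hA hm (le_sup_left.trans h)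
  by_contra hcon
  push Not at hcon
  apply h2
  refine comm_symm (V_le fun c hc => comm_symm ?_)
  have h3 : MulAut.conj c⁻¹ • A' ∈ AA (QQ v i) := by
    have h4 := cj_mem_AA c⁻¹ h1
    have h5 : cj c⁻¹ (QQ v i) = QQ v i := D.conj_QQ (inv_mem hc)
    rw [h5] at h4
    exact h4
  have h4 := conj_le_iff (g := c) |>.2 (hcon _ h3)
  rw [conj_conj, mul_inv_cancel, map_one, one_smul] at h4
  rw [show MulAut.conj c • centralizer (V i : Set G) = centralizer ((MulAut.conj c • V i : Subgroup G) : Set G) from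
    cj_centralizer c (V i)] at h4
  exact h4

/-- some member of `AA O₂(D)` moves some `N_i` -/
theorem exists_mvN : ∃ i, ∃ A ∈ AA (o2 (centralizer (zc T : Set G))), ¬ A ≤ centralizer (NU V v i : Set G) := by
  by_contra hcon
  push Not at hcon
  set O := o2 (centralizer (zc T : Set G)) with hO
  set J : Subgroup G := sSup (AA O) with hJ
  have h1 : ∀ i, ∀ A, A ∈ AA O ↔ A ∈ AA (QQ v i) := by
    intro i A
    constructor
    · intro hA
      exact AA_of D hA (f3' D i hA.2.1 (hcon i A hA))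
    · exact AA_sub D hML hK
  have h2 : ∀ i, CC v i ≤ normalizer (J : Set G) := by
    intro i g hg
    apply mem_normalizer_of_cj_le
    rw [cj_le_iff]
    refine sSup_le fun S hS => ?_
    rw [← cj_le_iff]
    have h3 := cj_mem_AA g ((h1 i S).1 hS)
    have h4 : cj g (QQ v i) = QQ v i := D.conj_QQ hg
    rw [h4] at h3
    exact le_sSup ((h1 i _).2 h3)
  have h3 : IsPGroup 2 J := (o2_isPGroup _).to_le (sSup_le fun S hS => hS.2.1 : J ≤ O)
  have h4 := D.nonloc J h3 (h2 0) (h2 1)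
  obtain ⟨A, hA⟩ := AA_nonempty O
  have h5 := (sharp D hML hK 1 hA).2.1
  have h6 : v (1 + 1) ∈ A := by
    apply h5
    exact ⟨D.mem_N 1, mem_centralizer_iff.2 fun a ha => D.comm_v _ (D.o2D_le_T (hA.2.1 ha))⟩
  have h7 : v (1 + 1) ∈ J := le_sSup hA h6
  rw [h4, mem_bot] at h7
  exact D.ne _ h7

/-- **(6.1)** -/
theorem exists_mv (hB : ∀ i, OneB T V v i) (i : Fin 2) : ∃ A ∈ AA (QQ v i), ¬ A ≤ centralizer (V i : Set G) := by
  obtain ⟨k, A, hA, hm⟩ := exists_mvN D hML hK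
  obtain ⟨A₁, hA₁, hm₁⟩ := mv_of D hML hK (hB k) hA hm
  rcases eq_or_ne k i with h | h
  · rw [← h]; exact ⟨A₁, hA₁, hm₁⟩
  · rw [eq_add_one h]
    refine mv_of D hML hK (hB (k + 1)) (AA_sub D hML hK hA₁) fun h1 => hm₁ ?_
    have h2 : V k ≤ NU V v (k + 1) := by
      have := D.V_le_N (k + 1)
      rwa [add_one_add_one] at this
    exact h1.trans (centralizer_le h2)

/-- **(6.2)** -/
theorem inter (hB : ∀ i, OneB T V v i) : EU T v 0 ⊓ EU T v 1 ≤ zc T := by
  refine D.thmI hML hK (Qs := o2 (centralizer (zc T : Set G))) (ZN.le_normalizer_o2 _) le_rfl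
    (fun i => (D.E_le_Q i).trans (D.Q_le_o2D i)) fun i => ?_
  obtain ⟨A, hA, hm⟩ := exists_mv D hML hK hB i
  exact ⟨A, AA_sub D hML hK hA, hm⟩

end Cfsg.Agent.Omega.TC.R
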