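import Cfsg.Agent.Omega.TC.R.Def

/-!
# CARD #18791, THEOREM R (helper691 #21425 (0.4)): the flag vectors

* `Can.mem_Qj`, `Can.mem_Q` : `n^p ∈ Q_i ∩ Q_{i+1}`, `p ∈ P i`;
* `Fl.exists` : a flag is `c * p`, `c ∈ C_i`, `p ∈ P i`;
* `Can.fl_mem`, `Can.fl_comm` : the vectors of the flags on `v i` lie in `Q_i`, centralise `X_i` and commute.
-/

set_option autoImplicit false
set_option linter.unusedSectionVars false

namespace Cfsg.Agent.Omega.TC.R

open Subgroup Cfsg Cfsg.Agent.ZN Cfsg.Agent.Omega.MinPar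
open Cfsg.Agent.Omega.OM.KTwo (CC QQ WU NU EU FF ne_add_one eq_add_one add_one_add_one le_normalizer_V le_V)
open Cfsg.Agent.Omega.NoFF.Basic (conj_conj mem_conj conj_le_iff conj_le_centralizer comm_symm comm_mono
  Z_le_V V_le conj_V_mul)
open Cfsg.Agent.Omega.NOThreeL.Pair (conj_eq_of_mem)
open scoped Pointwise

universe u

variable {G : Type u} [Group G] [Finite G] {T : Subgroup G} {V P : Fin 2 → Subgroup G} {v : Fin 2 → G}

section fr

variable (D : Fr T V P v)

include D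

/-- `n^p` centralises `N_i` and `W_i` -/
theorem Can.p_mem (hML : ML.Final.MLK.{u, u}) (hK : ∀ i, IsKGroup (CC v i)) {i : Fin 2} (hV : ¬ V i ≤ NU V v i)
    {n : G} (c : Can T V v i n) {p : G} (hp : p ∈ P i) :
    p * n * p⁻¹ ∈ QQ v i ∧ p * n * p⁻¹ ∈ centralizer (XX V v i : Set G) := by
  set y := p * v i * p⁻¹ with hy
  have hyV : y ∈ V i := mem_V_conj D hp
  have hy1 : y ≠ 1 := fun h => D.ne i (conj_eq_one_iff.1 h)
  have hXC : QQ v i ≤ centralizer (NU V v i : Set G) := D.Q_le_cent_N i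
  have hsup : ∀ x : G, x ∈ centralizer (WU V v i : Set G) → x ∈ centralizer (NU V v i : Set G) →
      x ∈ centralizer (XX V v i : Set G) := by
    intro x h1 h2
    rw [← zpowers_le] at h1 h2 ⊢
    exact comm_symm (sup_le (comm_symm h1) (comm_symm h2))
  by_cases hyv : y = v i
  · -- `n^p ∈ N_i`
    have hN : p * n * p⁻¹ ∈ NU V v i := by
      have hpC : p ∈ CC v i := by
        rw [mem_centralizer_singleton_iff]
        calc p * v i = p * v i * p⁻¹ * p := by group
          _ = v i * p := by rw [← hy, hyv]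
      exact (mem_normalizer_iff.1 (D.C_le_N_N i hpC) n).1 c.nN
    refine ⟨D.N_le_Q i hN, hsup _ ?_ (D.N_comm i hN)⟩
    exact (D.N_le_cent_Q i).trans (centralizer_le (D.W_le_Q i)) hN
  · have hj := c.mem_Qj D hML hK hp
    set m := p * n * p⁻¹ with hm
    have hmC : m ∈ CC v i := D.Q_le_C (i + 1) i hj
    have hVp : MulAut.conj p • V i = V i := conj_eq_of_mem (D.PN i i hp)
    -- `[m, N_i] = 1`
    have h1 : m ∈ centralizer (NU V v i : Set G) := by
      rw [mem_centralizer_iff]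
      intro x hx
      have hxV : x ∈ centralizer ((MulAut.conj p • V i : Subgroup G) : Set G) := by
        rw [hVp]; exact (D.N_le_cent_Q i).trans (centralizer_le (D.U_le_Q i)) hx
      rcases c.chi D p hxV with h | h
      · rw [← hm] at h
        calc x * m = x * m * x⁻¹ * x := by group
          _ = m * x := by rw [h]
      · exfalso
        rw [← hm, ← hy] at h
        have h2 : y ∈ NU V v i := by
          have e : y = m⁻¹ * x * m * x⁻¹ := by
            calc y = m⁻¹ * (m * y) := by group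
              _ = m⁻¹ * x * m * x⁻¹ := by rw [← h]; group
          rw [e]
          refine mul_mem ?_ (inv_mem hx)
          exact (mem_normalizer_iff''.1 (D.C_le_N_N i hmC) x).1 hx
        rcases mem_N_V D hV c.rad hyV h2 with h3 | h3
        · exact hy1 h3
        · exact hyv h3
    have h2 : m ∈ QQ v i := D.f3 i ⟨D.Q_le_o2D (i + 1) hj, h1⟩
    refine ⟨h2, hsup _ ?_ h1⟩
    -- `[m, W_i] = 1`
    rw [mem_centralizer_iff]
    intro w hw
    have h3 := D.comm_W_Q i w hw m h2
    rcases D.mem_zpv h3 with h4 | h4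
    · calc w * m = w * m * w⁻¹ * m⁻¹ * (m * w) := by group
        _ = m * w := by rw [h4, one_mul]
    · exfalso
      -- `v i ∈ p N_i p⁻¹`
      have hwy : w ∈ MulAut.conj p • CC v i := by
        rw [mem_conj, mem_centralizer_singleton_iff]
        have h5 : w * y = y * w := (mem_centralizer_iff.1 (D.W_comm i hw) y (D.V_le_W i hyV)).symm
        calc p⁻¹ * w * p * v i = p⁻¹ * (w * (p * v i * p⁻¹)) * p := by group
          _ = p⁻¹ * (y * w) * p := by rw [← hy, h5]
          _ = v i * (p⁻¹ * w * p) := by rw [hy]; group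
      have h6 : p⁻¹ * v i * p ∈ NU V v i := by
        have e : p⁻¹ * v i * p = (p⁻¹ * w * p) * n * (p⁻¹ * w * p)⁻¹ * n⁻¹ := by
          rw [← h4, hm]; group
        rw [e]
        refine mul_mem ?_ (inv_mem c.nN)
        exact (mem_normalizer_iff.1 (D.C_le_N_N i (mem_conj.1 hwy)) n).1 c.nN
      have h7 : p⁻¹ * v i * p ∈ V i := (mem_normalizer_iff''.1 (D.PN i i hp) _).1 (D.mem i)
      rcases mem_N_V D hV c.rad h7 h6 with h8 | h8
      · apply D.ne i
        have := congrArg (fun t => p * t * p⁻¹) h8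
        simpa [mul_assoc] using this
      · apply hyv
        rw [hy]
        calc p * v i * p⁻¹ = p * (p⁻¹ * v i * p) * p⁻¹ := by rw [h8]
          _ = v i := by group

theorem Fl_mul {i : Fin 2} {c g : G} (hc : c ∈ CC v i) (hg : Fl V v i g) : Fl V v i (c * g) := by
  have h1 : c⁻¹ * v i * c = v i := by
    have h2 : c * v i = v i * c := mem_centralizer_singleton_iff.1 hc
    rw [mul_assoc, ← h2, inv_mul_cancel_left]
  change (c * g)⁻¹ * v i * (c * g) ∈ V i
  have e : (c * g)⁻¹ * v i * (c * g) = g⁻¹ * (c⁻¹ * v i * c) * g := by group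
  rw [e, h1]
  exact hg

theorem Fl_P {i : Fin 2} {p : G} (hp : p ∈ P i) : Fl V v i p :=
  (mem_normalizer_iff''.1 (D.PN i i hp) _).1 (D.mem i)

/-- a flag is `c * p` -/
theorem Fl_exists {i : Fin 2} {g : G} (hg : Fl V v i g) : ∃ c ∈ CC v i, ∃ p ∈ P i, g = c * p := by
  have h1 : g⁻¹ * v i * g ≠ 1 := by
    intro h
    apply D.ne i
    have := congrArg (fun t => g * t * g⁻¹) h
    simpa [mul_assoc] using this
  obtain ⟨l, hl, -, hlx⟩ := D.tr (ne_add_one i) hg h1
  refine ⟨g * l, ?_, l⁻¹, inv_mem hl, by group⟩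
  rw [mem_centralizer_singleton_iff]
  calc g * l * v i = g * (l * v i * l⁻¹) * l := by group
    _ = v i * (g * l) := by rw [hlx]; group

theorem Can.fl_mem (hML : ML.Final.MLK.{u, u}) (hK : ∀ i, IsKGroup (CC v i)) {i : Fin 2} (hV : ¬ V i ≤ NU V v i)
    {n : G} (c : Can T V v i n) {g : G} (hg : Fl V v i g) :
    g * n * g⁻¹ ∈ QQ v i ∧ g * n * g⁻¹ ∈ centralizer (XX V v i : Set G) := by
  obtain ⟨d, hd, p, hp, rfl⟩ := Fl_exists D hg
  obtain ⟨h1, h2⟩ := c.p_mem D hML hK hV hp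
  have e : d * p * n * (d * p)⁻¹ = d * (p * n * p⁻¹) * d⁻¹ := by group
  rw [e]
  refine ⟨(mem_normalizer_iff.1 (ZN.le_normalizer_o2 _ hd) _).1 h1, ?_⟩
  have h3 := D.C_le_N_X i hd
  rw [mem_centralizer_iff] at h2 ⊢
  intro x hx
  have h4 := h2 (d⁻¹ * x * d) ((mem_normalizer_iff''.1 h3 x).1 hx)
  calc x * (d * (p * n * p⁻¹) * d⁻¹) = d * (d⁻¹ * x * d * (p * n * p⁻¹)) * d⁻¹ := by group
    _ = d * (p * n * p⁻¹) * d⁻¹ * x := by rw [h4]; group

/-- the line of a flag lies in `W_i` -/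
theorem Fl_line {i : Fin 2} {g : G} (hg : Fl V v i g) : MulAut.conj g • V i ≤ WU V v i := by
  obtain ⟨d, hd, p, hp, rfl⟩ := Fl_exists D hg
  have h1 : MulAut.conj (d * p) • V i = MulAut.conj d • V i := by
    rw [← conj_conj, conj_eq_of_mem (D.PN i i hp)]
  rw [h1]
  have h2 : MulAut.conj d • V i ≤ MulAut.conj d • WU V v i := conj_le_iff.2 (D.V_le_W i)
  rwa [conj_eq_of_mem (D.C_le_N_W i hd)] at h2

theorem Fl_point {i : Fin 2} {g : G} (hg : Fl V v i g) : g * v i * g⁻¹ ∈ WU V v i :=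
  Fl_line D hg ⟨v i, D.mem i, rfl⟩

theorem Can.fl_comm (hML : ML.Final.MLK.{u, u}) (hK : ∀ i, IsKGroup (CC v i)) {i : Fin 2} (hV : ¬ V i ≤ NU V v i)
    {n : G} (c : Can T V v i n) {g h : G} (hg : Fl V v i g) (hh : Fl V v i h) :
    (g * n * g⁻¹) * (h * n * h⁻¹) = (h * n * h⁻¹) * (g * n * g⁻¹) := by
  obtain ⟨hg1, hg2⟩ := c.fl_mem D hML hK hV hg
  obtain ⟨hh1, hh2⟩ := c.fl_mem D hML hK hV hh
  have hWX : WU V v i ≤ XX V v i := le_sup_left
  have hgc : g * n * g⁻¹ ∈ centralizer ((MulAut.conj h • V i : Subgroup G) : Set G) :=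
    centralizer_le ((Fl_line D hh).trans hWX) hg2
  have hhc : h * n * h⁻¹ ∈ centralizer ((MulAut.conj g • V i : Subgroup G) : Set G) :=
    centralizer_le ((Fl_line D hg).trans hWX) hh2
  rcases c.chi D h hgc with h1 | h1
  · calc (g * n * g⁻¹) * (h * n * h⁻¹) = (g * n * g⁻¹) * (h * n * h⁻¹) * (g * n * g⁻¹)⁻¹ * (g * n * g⁻¹) := by group
      _ = _ := by rw [h1]
  rcases c.chi D g hhc with h2 | h2
  · calc (g * n * g⁻¹) * (h * n * h⁻¹) = (h * n * h⁻¹) * (g * n * g⁻¹) * (h * n * h⁻¹)⁻¹ * (h * n * h⁻¹) := by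
          rw [h2]
      _ = _ := by group
  · -- the points are equal
    set a := g * n * g⁻¹ with ha
    set b := h * n * h⁻¹ with hb
    set y := g * v i * g⁻¹ with hy
    set z := h * v i * h⁻¹ with hz
    have hzy : z = y := by
      have e1 : z = b⁻¹ * (a * b * a⁻¹) := by rw [h1]; group
      have e2 : y = a⁻¹ * (b * a * b⁻¹) := by rw [h2]; group
      have hyy : y * y = 1 := by
        have : y * y = g * (v i * v i) * g⁻¹ := by rw [hy]; group
        rw [this, D.v_sq]; group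
      have hzz : z * z = 1 := by
        have : z * z = h * (v i * v i) * h⁻¹ := by rw [hz]; group
        rw [this, D.v_sq]; group
      have haa : a * a = 1 := by
        have : a * a = g * (n * n) * g⁻¹ := by rw [ha]; group
        rw [this, c.sq D]; group
      have hbb : b * b = 1 := by
        have : b * b = h * (n * n) * h⁻¹ := by rw [hb]; group
        rw [this, c.sq D]; group
      have hai : a⁻¹ = a := inv_eq_of_mul_eq_one_left haa
      have hbi : b⁻¹ = b := inv_eq_of_mul_eq_one_left hbb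
      have hyi : y⁻¹ = y := inv_eq_of_mul_eq_one_left hyy
      rw [hai, hbi] at e1 e2
      have e3 : (a * (b * a * b))⁻¹ = b * (a * b * a) := by
        simp only [mul_inv_rev, hai, hbi, mul_assoc]
      rw [e1, ← e3, ← e2, hyi]
    -- both in `N_y`
    have hgh : h⁻¹ * g ∈ CC v i := by
      rw [mem_centralizer_singleton_iff]
      calc h⁻¹ * g * v i = h⁻¹ * (g * v i * g⁻¹) * g := by group
        _ = h⁻¹ * (h * v i * h⁻¹) * g := by rw [← hy, ← hzy]
        _ = v i * (h⁻¹ * g) := by group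
    have h3 : h⁻¹ * g * n * (h⁻¹ * g)⁻¹ ∈ NU V v i := (mem_normalizer_iff.1 (D.C_le_N_N i hgh) n).1 c.nN
    have h4 := mem_centralizer_iff.1 (D.N_comm i h3) n c.nN
    calc a * b = h * (h⁻¹ * g * n * (h⁻¹ * g)⁻¹ * n) * h⁻¹ := by rw [ha, hb]; group
      _ = h * (n * (h⁻¹ * g * n * (h⁻¹ * g)⁻¹)) * h⁻¹ := by rw [← h4]
      _ = b * a := by rw [ha, hb]; group

end fr

end Cfsg.Agent.Omega.TC.R
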